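import Groth.Agent.Lib.LocCohSS.Basic
import Groth.Agent.H30.RightAcyc
import Groth.Agent.Lib.Cech.Sections
import Mathlib.Algebra.Homology.ShortComplex.ExactFunctor
import Mathlib.Topology.Sheaves.SheafCondition.UniqueGluing

/-!
# Sections with supports: left exactness, flasqueness, vanishing of local cohomology sheaves

* `sectSuppF_preservesFiniteLimits`, `isFlasque_sectSupp`;
* `isZero_HZsh_of_locally`: `ℋ^i_Z` vanishes if classes with supports die locally;
* `isZero_HZsh_iff`: `ℋ^i_Z = 0` for `i < n` iff `H^i_{V∩Z}(V, -) = 0` for `i < n` and all `V`.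
-/

set_option autoImplicit false
set_option linter.style.haveILetI false

universe u

open CategoryTheory Limits Opposite TopologicalSpace Abelian
open Groth.Agent.Lib.SiteCoh.Basic Groth.Agent.Lib.LocCohSS.Basic
open Groth.Agent.Lib.EtJ.RightAcyclic Groth.Agent.H30.RightAcyc

namespace Groth.Agent.H30.LocZ.Vanish

variable {X : TopCat.{u}} (U : Opens X)

lemma image_preimage_eq (V : Opens X) :
    U.isOpenEmbedding.isOpenMap.functor.obj ((Opens.map U.inclusion').obj V) = V ⊓ U := by
  ext x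
  exact ⟨fun ⟨y, hy, e⟩ => e ▸ ⟨hy, y.2⟩, fun hx => ⟨⟨x, hx.2⟩, hx.1, rfl⟩⟩

/-- Sections with supports over `V` as maps out of `ℤ_V/ℤ_{V ∩ U}`. -/
noncomputable def supp (F : CohTop.Ab X) (V : Opens X) :
    (CohCx.freeSheaf (Opens.grothendieckTopology X) V ⟶ (LocCohZ.sectSuppF U).obj F) ≃+
      (LocCohZ.zq (inf_le_left : V ⊓ U ≤ V) ⟶ F) :=
  suppHomEquiv U F (image_preimage_eq U V) inf_le_left

lemma supp_comp {F G : CohTop.Ab X} (φ : F ⟶ G) (V : Opens X)
    (a : CohCx.freeSheaf (Opens.grothendieckTopology X) V ⟶ (LocCohZ.sectSuppF U).obj F) :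
    supp U G V (a ≫ (LocCohZ.sectSuppF U).map φ) = supp U F V a ≫ φ :=
  suppHomEquiv_comp U φ _ _ a

lemma supp_symm_comp {F G : CohTop.Ab X} (φ : F ⟶ G) (V : Opens X)
    (b : LocCohZ.zq (inf_le_left : V ⊓ U ≤ V) ⟶ F) :
    (supp U F V).symm b ≫ (LocCohZ.sectSuppF U).map φ = (supp U G V).symm (b ≫ φ) := by
  apply (supp U G V).injective
  rw [supp_comp, AddEquiv.apply_symm_apply, AddEquiv.apply_symm_apply]

lemma supp_res (F : CohTop.Ab X) {V V' : Opens X} (i : V' ≤ V)
    (a : CohCx.freeSheaf (Opens.grothendieckTopology X) V ⟶ (LocCohZ.sectSuppF U).obj F) :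
    supp U F V' (CohCx.freeSheafMap _ (homOfLE i) ≫ a) =
      LocCohZ.zqMap (inf_le_left : V ⊓ U ≤ V) (inf_le_left : V' ⊓ U ≤ V')
        (inf_le_inf_right U i) i ≫ supp U F V a := by
  apply coequalizer.hom_ext
  change cokernel.π _ ≫ cokernel.desc _
      ((CohCx.freeSheafMap (Opens.grothendieckTopology X) (homOfLE i) ≫ a) ≫ kernel.ι _) _ =
    cokernel.π _ ≫ LocCohZ.zqMap _ _ _ i ≫ cokernel.desc _ (a ≫ kernel.ι _) _
  erw [cokernel.π_desc, LocCohZ.zqMap, cokernel.π_desc_assoc]
  erw [Category.assoc, Category.assoc, cokernel.π_desc]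

instance sectSuppF_preservesFiniteLimits : PreservesFiniteLimits (LocCohZ.sectSuppF U) := by
  have h := (Functor.preservesFiniteLimits_tfae (LocCohZ.sectSuppF U)).out 0 3
  refine h.1 fun S hS => ⟨?_, ?_⟩
  · refine Groth.Agent.Lib.SiteCoh.Higher.exact_of_sections _
      fun V (x : ((LocCohZ.sectSuppF U).obj S.X₂).obj.obj (op V)) hx => ?_
    let a : CohCx.freeSheaf (Opens.grothendieckTopology X) V ⟶ (LocCohZ.sectSuppF U).obj S.X₂ :=
      (homEquiv V _).symm x
    have ha : a ≫ (LocCohZ.sectSuppF U).map S.g = 0 := by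
      refine (homEquiv_symm_comp x _).trans ?_
      exact (congrArg (homEquiv V _).symm hx).trans (map_zero _)
    have hb : supp U _ V a ≫ S.g = 0 := by rw [← supp_comp, ha, map_zero]
    haveI := hS.mono_f
    let c := (supp U _ V).symm (hS.exact.lift (supp U _ V a) hb)
    refine ⟨homEquiv V _ c, ?_⟩
    change ((LocCohZ.sectSuppF U).map S.f).hom.app (op V) (homEquiv V _ c) = x
    rw [← homEquiv_comp]
    apply (homEquiv V _).symm.injective
    rw [AddEquiv.symm_apply_apply]
    apply (supp U _ V).injective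
    rw [supp_comp, AddEquiv.apply_symm_apply, hS.exact.lift_f]
  · haveI := hS.mono_f
    refine Preadditive.mono_of_cancel_zero _ fun {T} g hg => ?_
    apply equalizer.hom_ext
    have h2 : (g ≫ kernel.ι _) ≫ S.f = 0 :=
      (Category.assoc _ _ _).trans ((congrArg (g ≫ ·) (kernel.lift_ι _ _ _).symm).trans
        ((Category.assoc _ _ _).symm.trans ((congrArg (· ≫ kernel.ι _) hg).trans zero_comp)))
    exact ((cancel_mono S.f).1 (h2.trans zero_comp.symm)).trans zero_comp.symm

/-- Sections with supports of a flasque sheaf form a flasque sheaf. -/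
theorem isFlasque_sectSupp (A : CohTop.Ab X) [TopCat.Sheaf.IsFlasque A] :
    TopCat.Sheaf.IsFlasque ((LocCohZ.sectSuppF U).obj A) where
  epi {V W} i := by
    rw [AddCommGrpCat.epi_iff_surjective]
    intro s
    have hle : W.unop ≤ V.unop := leOfHom i.unop
    obtain ⟨t, ht0⟩ : ∃ t : LocCohZ.sectZ A (inf_le_left : W.unop ⊓ U ≤ W.unop),
        homZqEquiv _ A (supp U A W.unop ((homEquiv W.unop _).symm s)) = t := ⟨_, rfl⟩
    let A' : TopCat.Sheaf AddCommGrpCat.{u} X := A
    let O : ULift.{u} Bool → Opens X := fun b => cond b.down W.unop (V.unop ⊓ U)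
    have hO : ∀ b, O b ≤ V.unop := fun b => by
      rcases b with ⟨_ | _⟩
      exacts [inf_le_left, hle]
    have hsup : iSup O ≤ V.unop := iSup_le hO
    obtain ⟨g, hg, -⟩ := TopCat.Sheaf.existsUnique_gluing A' O
      (fun b => match b with | ⟨true⟩ => t.1 | ⟨false⟩ => 0)
      (fun a b => by
        rcases a with ⟨_ | _⟩ <;> rcases b with ⟨_ | _⟩
        · rfl
        · refine (map_zero _).trans ?_
          have h0 : A.obj.map (homOfLE (inf_le_left : W.unop ⊓ U ≤ W.unop)).op t.1 = 0 := t.2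
          symm
          change A.obj.map (Opens.infLERight (V.unop ⊓ U) W.unop).op t.1 = 0
          rw [show Opens.infLERight (V.unop ⊓ U) W.unop =
            homOfLE (show (V.unop ⊓ U) ⊓ W.unop ≤ W.unop ⊓ U from
              le_inf inf_le_right (inf_le_left.trans inf_le_right)) ≫
              homOfLE (inf_le_left : W.unop ⊓ U ≤ W.unop) from Subsingleton.elim _ _,
            op_comp, Functor.map_comp, ConcreteCategory.comp_apply, h0, map_zero]
        · refine Eq.trans ?_ (map_zero _).symm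
          have h0 : A.obj.map (homOfLE (inf_le_left : W.unop ⊓ U ≤ W.unop)).op t.1 = 0 := t.2
          change A.obj.map (Opens.infLELeft W.unop (V.unop ⊓ U)).op t.1 = 0
          rw [show Opens.infLELeft W.unop (V.unop ⊓ U) =
            homOfLE (show W.unop ⊓ (V.unop ⊓ U) ≤ W.unop ⊓ U from
              le_inf inf_le_left (inf_le_right.trans inf_le_right)) ≫
              homOfLE (inf_le_left : W.unop ⊓ U ≤ W.unop) from Subsingleton.elim _ _,
            op_comp, Functor.map_comp, ConcreteCategory.comp_apply, h0, map_zero]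
        · rfl)
    obtain ⟨e, he⟩ := Groth.Agent.Lib.ZarCoh.Basic.flasque_surjective A hsup g
    have heb : ∀ b, A.obj.map (homOfLE (hO b)).op e = A.obj.map (Opens.leSupr O b).op g := fun b => by
      rw [← he, ← ConcreteCategory.comp_apply, ← Functor.map_comp]
      rfl
    have he0 : e ∈ LocCohZ.sectZ A (inf_le_left : V.unop ⊓ U ≤ V.unop) :=
      (heb ⟨false⟩).trans (hg ⟨false⟩)
    refine ⟨homEquiv V.unop _ ((supp U A V.unop).symm ((homZqEquiv _ A).symm ⟨e, he0⟩)), ?_⟩
    rw [show i = (homOfLE hle).op from Subsingleton.elim _ _, ← homEquiv'_naturality_left]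
    apply (homEquiv W.unop _).symm.injective
    rw [AddEquiv.symm_apply_apply]
    apply (supp U A W.unop).injective
    rw [supp_res, AddEquiv.apply_symm_apply]
    apply (homZqEquiv _ A).injective
    rw [ht0]
    refine Subtype.ext ?_
    change homEquiv W.unop A (cokernel.π _ ≫ LocCohZ.zqMap _ _ _ hle ≫ cokernel.desc _ _ _) = t.1
    erw [LocCohZ.zqMap, cokernel.π_desc_assoc, Category.assoc, cokernel.π_desc,
      homEquiv'_naturality_left, AddEquiv.apply_symm_apply]
    exact (heb ⟨true⟩).trans (hg ⟨true⟩)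

/-- `ℋ^{q+1}_Z F = 0` if classes with supports die locally. -/
theorem isZero_HZsh_of_locally (F : CohTop.Ab X) (q : ℕ)
    (hF : ∀ (V : Opens X) (ξ : LocCohZ.HZ F (q + 1) (inf_le_left : V ⊓ U ≤ V)) (x : X), x ∈ V →
      ∃ (V' : Opens X) (hV : V' ≤ V), x ∈ V' ∧
        LocCohZ.resZ F (q + 1) (inf_le_left : V ⊓ U ≤ V) (inf_le_left : V' ⊓ U ≤ V')
          (inf_le_inf_right U hV) hV ξ = 0) :
    IsZero ((LocCohZ.HZsh U (q + 1)).obj F) := by
  let R := injectiveResolution F
  refine IsZero.of_iso ?_ (R.isoRightDerivedObj (LocCohZ.sectSuppF U) (q + 1))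
  refine HomologicalComplex.ExactAt.isZero_homology ?_
  rw [HomologicalComplex.exactAt_iff' _ q (q + 1) (q + 2) (by simp) (by simp)]
  refine (ShortComplex.exact_iff_of_iso (S₁ := ShortComplex.map _ (𝟭 _)) (ShortComplex.mapNatIso
    ((((LocCohZ.sectSuppF U).mapHomologicalComplex _).obj R.cocomplex).sc' q (q + 1) (q + 2))
    (sheafificationNatIso (Opens.grothendieckTopology X) AddCommGrpCat.{u}))).2 ?_
  refine Groth.Agent.Lib.SiteCoh.LocExact.exact_map_of_locally_exact
    ((((LocCohZ.sectSuppF U).mapHomologicalComplex _).obj R.cocomplex).sc' q (q + 1) (q + 2) |>.map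
      (sheafToPresheaf (Opens.grothendieckTopology X) AddCommGrpCat.{u})) fun V x hx => ?_
  let a : CohCx.freeSheaf (Opens.grothendieckTopology X) V ⟶
      (LocCohZ.sectSuppF U).obj (R.cocomplex.X (q + 1)) := (homEquiv V _).symm x
  have ha : a ≫ (LocCohZ.sectSuppF U).map (R.cocomplex.d (q + 1) (q + 2)) = 0 := by
    refine (homEquiv_symm_comp x _).trans ?_
    exact (congrArg (homEquiv V _).symm hx).trans (map_zero _)
  have hf : supp U _ V a ≫ R.cocomplex.d (q + 1) (q + 2) = 0 := by
    rw [← supp_comp, ha, map_zero]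
  choose W hW hxW hξ using fun z : V => hF V (R.extMk (supp U _ V a) (q + 2) rfl hf) z.1 z.2
  refine ⟨Sieve.generate (Presieve.ofArrows W fun z => homOfLE (hW z)), fun z hz => ⟨W ⟨z, hz⟩,
    homOfLE (hW ⟨z, hz⟩), ⟨_, 𝟙 _, _, Presieve.ofArrows.mk (⟨z, hz⟩ : V), Category.id_comp _⟩, hxW _⟩, ?_⟩
  rintro V' g ⟨Y, g₁, g₂, ⟨z⟩, rfl⟩
  have h2 := hξ z
  change (Ext.mk₀ _).comp (R.extMk _ _ _ _) (zero_add _) = 0 at h2
  rw [InjectiveResolution.mk₀_comp_extMk] at h2
  obtain ⟨w, hw⟩ := (R.extMk_eq_zero_iff _ (q + 2) rfl _ q rfl).1 h2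
  refine ⟨((LocCohZ.sectSuppF U).obj (R.cocomplex.X q)).obj.map g₁.op
    (homEquiv (W z) _ ((supp U _ (W z)).symm w)), ?_⟩
  change ((LocCohZ.sectSuppF U).map (R.cocomplex.d q (q + 1))).hom.app (op V') _ =
    ((LocCohZ.sectSuppF U).obj _).obj.map (g₁ ≫ homOfLE (hW z)).op x
  rw [NatTrans.naturality_apply, ← homEquiv_comp, supp_symm_comp, hw, op_comp, Functor.map_comp]
  erw [ConcreteCategory.comp_apply]
  refine congrArg _ ?_
  apply (homEquiv (W z) _).symm.injective
  rw [AddEquiv.symm_apply_apply]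
  apply (supp U _ (W z)).injective
  rw [AddEquiv.apply_symm_apply, ← supp_res]
  congr 1
  apply (homEquiv (W z) _).injective
  rw [AddEquiv.apply_symm_apply, homEquiv'_naturality_left]
  exact congrArg _ ((homEquiv V _).apply_symm_apply _)

/-- `ℋ^0_Z F = 0` iff no nonzero section has support in `Z`. -/
theorem isZero_HZsh_zero_iff (F : CohTop.Ab X) :
    IsZero ((LocCohZ.HZsh U 0).obj F) ↔
      ∀ V : Opens X, Subsingleton (LocCohZ.HZ F 0 (inf_le_left : V ⊓ U ≤ V)) := by
  refine (Iso.isZero_iff ((LocCohZ.sectSuppF U).rightDerivedZeroIsoSelf.app F)).trans ?_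
  constructor
  · intro h V
    refine subsingleton_of_forall_eq 0 fun x => ?_
    obtain ⟨b, rfl⟩ := (Ext.mk₀_bijective _ _).2 x
    rw [show b = supp U F V ((supp U F V).symm b) from ((supp U F V).apply_symm_apply b).symm,
      h.eq_of_tgt ((supp U F V).symm b) 0, map_zero, Ext.mk₀_zero]
  · intro h
    refine (IsZero.iff_id_eq_zero _).2 ?_
    refine CategoryTheory.Sheaf.hom_ext (NatTrans.ext (funext fun V => ?_))
    ext s
    apply (homEquiv V.unop _).symm.injective
    apply (supp U F V.unop).injective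
    exact (Ext.mk₀_bijective _ _).1 ((h V.unop).elim _ _)

/-- If the sheaves `ℋ^i_Z F` vanish for `i < n`, so do the groups `H^i_{V∩Z}(V, F)`. -/
theorem subsingleton_HZ_of_isZero_HZsh (F : CohTop.Ab X) (n : ℕ)
    (h : ∀ i, i < n → IsZero ((LocCohZ.HZsh U i).obj F)) (V : Opens X) (i : ℕ) (hi : i < n) :
    Subsingleton (LocCohZ.HZ F i (inf_le_left : V ⊓ U ≤ V)) := by
  let P := injectiveResolution F
  let G := LocCohZ.sectSuppF U
  have hS : ∀ k, k + 1 < n → ((seq P k).map G).ShortExact := fun k hk => by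
    haveI := (seq_shortExact P k).mono_f
    exact
      { exact := (seq_shortExact P k).exact.map_of_mono_of_preservesKernel _ inferInstance
          inferInstance
        mono_f := G.map_mono _
        epi_g := Abelian.epi_of_cokernel_π_eq_zero _
          ((IsZero.of_iso (h (k + 1) hk) (isoCokernel P G k).symm).eq_of_tgt _ _) }
  have hflasque : ∀ k, k < n → TopCat.Sheaf.IsFlasque (G.obj (cyc P k)) := by
    intro k hk
    induction k with
    | zero =>
      have hz : IsZero (G.obj (cyc P 0)) := IsZero.of_iso (h 0 hk)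
        ((G.mapIso (isoCyc₀ P).symm) ≪≫ (G.rightDerivedZeroIsoSelf.app F).symm)
      refine { epi := fun {A B} g => (AddCommGrpCat.epi_iff_surjective _).2 fun s => ⟨0, ?_⟩ }
      rw [map_zero]
      have := congrArg (fun φ : G.obj (cyc P 0) ⟶ G.obj (cyc P 0) => φ.hom.app B s)
        (hz.eq_of_tgt (𝟙 _) 0)
      exact this.symm
    | succ k ih =>
      haveI : TopCat.Sheaf.IsFlasque ((seq P k).map G).X₁ := ih (by omega)
      haveI : Injective (P.cocomplex.X k) := P.injective k
      haveI := Groth.Agent.Lib.ZarCoh.Basic.isFlasque_of_injective (P.cocomplex.X k)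
      haveI : TopCat.Sheaf.IsFlasque ((seq P k).map G).X₂ :=
        isFlasque_sectSupp U (P.cocomplex.X k)
      exact TopCat.Sheaf.IsFlasque.of_shortExact_of_isFlasque₁₂ (hS k hk)
  cases i with
  | zero => exact (isZero_HZsh_zero_iff U F).1 (h 0 hi) V
  | succ k =>
    refine subsingleton_of_forall_eq 0 fun x => ?_
    obtain ⟨b, rfl⟩ := toExt_surjective (ofRes P) _ (k + 1) x
    haveI : TopCat.Sheaf.IsFlasque ((seq P k).map G).X₁ := hflasque k (by omega)
    haveI : Subsingleton (CohTop.HU ((seq P k).map G).X₁ 1 V) :=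
      Groth.Agent.Lib.ZarCoh.Basic.HU_flasque _ V 0
    obtain ⟨t, ht⟩ := Groth.Agent.Lib.Cech.Sections.app_surjective (hS k hi) V
      (homEquiv V _ ((supp U _ V).symm b))
    rw [toExt_succ_eq_zero_iff]
    refine ⟨supp U _ V ((homEquiv V _).symm t), ?_⟩
    rw [← supp_comp]
    erw [homEquiv_symm_comp]
    erw [ht]
    exact ((congrArg (supp U _ V) ((homEquiv V _).symm_apply_apply _)).trans
      ((supp U _ V).apply_symm_apply b))

theorem isZero_HZsh_iff (F : CohTop.Ab X) (n : ℕ) :
    (∀ i : ℕ, i < n → IsZero ((LocCohZ.HZsh U i).obj F)) ↔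
      ∀ (V : Opens X) (i : ℕ), i < n → Subsingleton (LocCohZ.HZ F i (inf_le_left : V ⊓ U ≤ V)) := by
  refine ⟨subsingleton_HZ_of_isZero_HZsh U F n, fun h i hi => ?_⟩
  cases i with
  | zero => exact (isZero_HZsh_zero_iff U F).2 fun V => h V 0 hi
  | succ q =>
    exact isZero_HZsh_of_locally U F q fun V ξ x hx =>
      ⟨V, le_rfl, hx, (h V (q + 1) hi).elim _ _⟩

end Groth.Agent.H30.LocZ.Vanish
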