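import Groth.Agent.H30.LocZ.AffineBridge
import Groth.Agent.H30.LocZ.Vanish
import Groth.Agent.Lib.StalkLoc.Basic
import Groth.Agent.Lib.Depth.LocalCoh
import Groth.Agent.Lib.CohBasics.Closure

/-!
# Depth along a closed set and vanishing of local cohomology sheaves

`isZero_HZsh_below_iff`: `ℋ^i_Y(M) = 0` for `i < n` iff `depth M_x ≥ n` on `Y`.
-/

set_option autoImplicit false
set_option linter.style.haveILetI false

universe u

open CategoryTheory Limits Opposite TopologicalSpace AlgebraicGeometry Abelian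
open Groth.Agent.Lib Groth.Agent.Lib.StalkLoc.Basic

namespace Groth.Agent.H30.LocZ.DepthStalk

variable {X : Scheme.{u}} {M : X.Modules}

/-- The depth of a stalk from the sections over an affine open. -/
theorem depth_stalk_eq [M.IsQuasicoherent] {V : X.Opens} (hV : IsAffineOpen V) {x : X} (hx : x ∈ V) :
    LocCoh.depth (X.presheaf.stalk x) (M.presheaf.stalk x) =
      LocCoh.depth (Localization.AtPrime (hV.primeIdealOf ⟨x, hx⟩).asIdeal)
        (LocalizedModule (hV.primeIdealOf ⟨x, hx⟩).asIdeal.primeCompl Γ(M, V)) := by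
  let p := (hV.primeIdealOf ⟨x, hx⟩).asIdeal
  letI := TopCat.Presheaf.algebra_section_stalk X.presheaf (⟨x, hx⟩ : V)
  haveI : IsLocalization.AtPrime (X.presheaf.stalk x) p := hV.isLocalization_stalk ⟨x, hx⟩
  letI := moduleSections M hx
  haveI := isScalarTower_sections M hx
  haveI := isLocalizedModule_germ (M := M) hV hx
  let ε : Localization.AtPrime p ≃ₐ[Γ(X, V)] X.presheaf.stalk x :=
    IsLocalization.algEquiv p.primeCompl _ _
  letI : Algebra (Localization.AtPrime p) (X.presheaf.stalk x) := ε.toRingHom.toAlgebra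
  letI : Module (Localization.AtPrime p) (M.presheaf.stalk x) := Module.compHom _ ε.toRingHom
  haveI : IsScalarTower (Localization.AtPrime p) (X.presheaf.stalk x) (M.presheaf.stalk x) :=
    ⟨fun a b c => mul_smul (ε.toRingHom a) b c⟩
  haveI : IsScalarTower Γ(X, V) (Localization.AtPrime p) (M.presheaf.stalk x) :=
    IsScalarTower.of_algebraMap_smul fun r m => by
      show ε (algebraMap Γ(X, V) (Localization.AtPrime p) r) • m = r • m
      rw [ε.commutes]
      exact algebraMap_smul _ r m
  let e : LocalizedModule p.primeCompl Γ(M, V) ≃ₗ[Localization.AtPrime p] M.presheaf.stalk x :=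
    (IsLocalizedModule.iso p.primeCompl (germₗ M hx)).extendScalarsOfIsLocalization p.primeCompl _
  rw [← Depth.Basic.depth_eq_of_surjective (R := Localization.AtPrime p) (S := X.presheaf.stalk x)
    ε.surjective]
  exact (Depth.Basic.depth_congr e).symm

variable [IsLocallyNoetherian X] (U : X.Opens)

/-- Depth along `V ∖ U` against cohomology with supports. -/
theorem depth_iff_subsingleton_HZ (hM : Coh.IsCoh M) {V : X.Opens} (hV : IsAffineOpen V) (n : ℕ) :
    (∀ x : X, x ∈ V → x ∉ (U : Set X) →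
        (n : ℕ∞) ≤ LocCoh.depth (X.presheaf.stalk x) (M.presheaf.stalk x)) ↔
      ∀ i < n, Subsingleton
        (LocCohZ.HZ (X := X.carrier) (Coh.toAb M) i (inf_le_left : V ⊓ U ≤ V)) := by
  haveI := hM.1
  haveI : IsNoetherianRing Γ(X, V) := IsLocallyNoetherian.component_noetherian ⟨V, hV⟩
  haveI := CohBasics.Closure.finite_sections hM hV
  obtain ⟨I, hI⟩ := AffineBridge.exists_cutsOut hV U
  have h1 : (∀ i < n, Subsingleton
      (LocCohZ.HZ (X := X.carrier) (Coh.toAb M) i (inf_le_left : V ⊓ U ≤ V))) ↔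
        ∀ i < n, Subsingleton (LocCoh.H I i Γ(M, V)) := forall₂_congr fun i _ => by
    obtain ⟨e⟩ := AffineBridge.exists_equiv_H M hV hI i
    exact e.toEquiv.subsingleton_congr
  rw [h1, ← Depth.LocalCoh.le_idealDepth_iff_H, Depth.Local.idealDepth_eq_iInf I Γ(M, V)]
  simp only [le_iInf_iff]
  constructor
  · intro h p hp
    have hxV : hV.fromSpec p ∈ V :=
      (Set.ext_iff.1 hV.range_fromSpec _).1 ⟨p, rfl⟩
    have hpe : hV.primeIdealOf ⟨hV.fromSpec p, hxV⟩ = p :=
      hV.fromSpec.isOpenEmbedding.injective (hV.fromSpec_primeIdealOf _)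
    have h2 := h _ hxV ((AffineBridge.mem_iff hV hI hxV).2 (hpe.symm ▸ hp))
    rw [depth_stalk_eq hV hxV] at h2
    rwa [hpe] at h2
  · intro h x hx hxU
    rw [depth_stalk_eq hV hx]
    exact h _ ((AffineBridge.mem_iff hV hI hx).1 hxU)

omit [IsLocallyNoetherian X] in
/-- Vanishing of `ℋ^i` follows from vanishing on a basis. -/
theorem isZero_HZsh_of_basis {T : TopCat.{u}} (W : Opens T) (F : CohTop.Ab T) (B : Set (Opens T))
    (hB : Opens.IsBasis B) (i : ℕ)
    (h : ∀ V ∈ B, Subsingleton (LocCohZ.HZ F i (inf_le_left : V ⊓ W ≤ V))) :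
    IsZero ((LocCohZ.HZsh W i).obj F) := by
  cases i with
  | succ q =>
    refine Vanish.isZero_HZsh_of_locally W F q fun V ξ x hx => ?_
    obtain ⟨V', hV', hxV', hle⟩ := (Opens.isBasis_iff_nbhd.1 hB) hx
    exact ⟨V', hle, hxV', (h V' hV').elim _ _⟩
  | zero =>
    refine (Vanish.isZero_HZsh_zero_iff W F).2 fun V => ?_
    refine ((LocCohZ.sect0Equiv F _).toEquiv.subsingleton_congr).2
      (subsingleton_of_forall_eq 0 fun s => ?_)
    refine Subtype.ext ?_
    choose V' hV' hxV' hle using fun x : V => (Opens.isBasis_iff_nbhd.1 hB) x.2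
    refine TopCat.Sheaf.eq_of_locally_eq' (F : TopCat.Sheaf AddCommGrpCat.{u} T) V' V
      (fun x => homOfLE (hle x)) (fun y hy => Opens.mem_iSup.2 ⟨⟨y, hy⟩, hxV' _⟩) _ _ fun x => ?_
    have hs : F.obj.map (homOfLE (hle x)).op s.1 ∈
        LocCohZ.sectZ F (inf_le_left : V' x ⊓ W ≤ V' x) := by
      show F.obj.map (homOfLE inf_le_left).op (F.obj.map (homOfLE (hle x)).op s.1) = 0
      have hs0 : F.obj.map (homOfLE (inf_le_left : V ⊓ W ≤ V)).op s.1 = 0 := s.2
      refine ((ConcreteCategory.congr_hom (F.obj.map_comp _ _) s.1).symm.trans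
        (congrArg (fun t => F.obj.map t s.1) (Subsingleton.elim _
          ((homOfLE (inf_le_left : V ⊓ W ≤ V)).op ≫
            (homOfLE (inf_le_inf_right W (hle x))).op)))).trans ?_
      exact (ConcreteCategory.congr_hom (F.obj.map_comp _ _) s.1).trans
        ((congrArg (F.obj.map (homOfLE (inf_le_inf_right W (hle x))).op) hs0).trans (map_zero _))
    have := ((LocCohZ.sect0Equiv F _).toEquiv.subsingleton_congr).1 (h (V' x) (hV' x))
    refine Eq.trans ?_ (map_zero (F.obj.map (homOfLE (hle x)).op).hom).symm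
    exact congrArg Subtype.val (this.elim (⟨_, hs⟩ : LocCohZ.sectZ F _) 0)

theorem isZero_HZsh_below_iff (hM : Coh.IsCoh M) (n : ℕ) :
    (∀ i : ℕ, i < n → IsZero ((LocCohZ.HZsh (X := X.carrier) U i).obj (Coh.toAb M))) ↔
      ∀ x : X, x ∉ (U : Set X) →
        (n : ℕ∞) ≤ LocCoh.depth (X.presheaf.stalk x) (M.presheaf.stalk x) := by
  constructor
  · intro h x hxU
    obtain ⟨V, hV, hx, -⟩ := exists_isAffineOpen_mem_and_subset (X := X) (x := x) (U := ⊤) trivial
    exact (depth_iff_subsingleton_HZ U hM hV n).2 (fun i hi =>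
      Vanish.subsingleton_HZ_of_isZero_HZsh (X := X.carrier) U (Coh.toAb M) n h V i hi) x hx hxU
  · intro h i hi
    exact isZero_HZsh_of_basis U (Coh.toAb M) _ X.isBasis_affineOpens i fun V hV =>
      (depth_iff_subsingleton_HZ U hM hV n).1 (fun x _ hx => h x hx) i hi

end Groth.Agent.H30.LocZ.DepthStalk
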