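import Groth.Agent.H30.LocZ.EmbExcision
import Groth.Agent.Lib.Koszul.Stable.Supp
import Groth.Agent.Lib.Koszul.Stable.LC
import Groth.Agent.Lib.QCoh.Tilde
import Groth.Agent.Lib.QCoh.Localizing

/-!
# Local cohomology of a quasi-coherent module on an affine open

`exists_equiv_H`: for `V` affine, `H^i_{V∖U}(V, M) = H^i_I(Γ(V, M))`, `I` an ideal of `V ∖ U`.
-/

set_option autoImplicit false
set_option linter.style.haveILetI false

universe u

open CategoryTheory Limits Opposite TopologicalSpace AlgebraicGeometry Abelian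
open Groth.Agent.Lib.QCoh

namespace Groth.Agent.H30.LocZ.AffineBridge

variable {X : Scheme.{u}} (M : X.Modules) {V : X.Opens} (hV : IsAffineOpen V)

lemma image_top : hV.fromSpec ''ᵁ ⊤ = V := by
  rw [Scheme.Hom.image_top_eq_opensRange, hV.opensRange_fromSpec]

lemma appIso_inv_ΓSpecIso_inv (r : Γ(X, V)) :
    (hV.fromSpec.appIso ⊤).inv ((Scheme.ΓSpecIso Γ(X, V)).inv r) =
      Localizing.resR (image_top hV).le r := by
  apply (ConcreteCategory.bijective_of_isIso (hV.fromSpec.appIso ⊤).hom).1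
  rw [← ConcreteCategory.comp_apply, Iso.inv_hom_id, ConcreteCategory.id_apply,
    Scheme.Hom.appIso_hom]
  have h1 := congr($(hV.fromSpec.naturality (homOfLE (image_top hV).le).op) r)
  simp only [ConcreteCategory.comp_apply, hV.fromSpec_app_self] at h1
  rw [ConcreteCategory.comp_apply]
  erw [h1]
  rw [← ConcreteCategory.comp_apply, ← ConcreteCategory.comp_apply, ← ConcreteCategory.comp_apply,
    ← Functor.map_comp, ← Functor.map_comp]
  refine ((ConcreteCategory.congr_hom (congrArg (fun t => (Scheme.ΓSpecIso Γ(X, V)).inv ≫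
    (Spec Γ(X, V)).presheaf.map t) (Subsingleton.elim _ (𝟙 _))) r).trans ?_).symm
  rw [CategoryTheory.Functor.map_id, Category.comp_id]

/-- Global sections of the restriction to an affine open. -/
noncomputable def sectionsEquiv :
    (Tilde.specΓ Γ(X, V)).obj (M.restrict hV.fromSpec) ≃ₗ[Γ(X, V)] Γ(M, V) where
  toFun x := Localizing.res M (image_top hV).ge x
  invFun y := Localizing.res M (image_top hV).le y
  left_inv x := (Localizing.res_res _ _ _).trans (Localizing.res_self _ _)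
  right_inv y := (Localizing.res_res _ _ _).trans (Localizing.res_self _ _)
  map_add' x y := map_add (Localizing.res M (image_top hV).ge) x y
  map_smul' r x := by
    let x' : Γ(M, hV.fromSpec ''ᵁ ⊤) := x
    show Localizing.res M (image_top hV).ge ((hV.fromSpec.appIso ⊤).inv
        (Localizing.resR (le_top : (⊤ : (Spec Γ(X, V)).Opens) ≤ ⊤) ((Scheme.ΓSpecIso Γ(X, V)).inv r))
          • x') = r • Localizing.res M (image_top hV).ge x'
    rw [Localizing.resR_self, appIso_inv_ΓSpecIso_inv, Localizing.res_smul, Localizing.resR_resR,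
      Localizing.resR_self]

/-- The trace of `U` on `Spec Γ(X, V)`. -/
noncomputable abbrev trace (U : X.Opens) : (Spec Γ(X, V)).Opens := hV.fromSpec ⁻¹ᵁ (V ⊓ U)

/-- The underlying sheaf of `M|_V` as a tilde. -/
noncomputable def shIso [M.IsQuasicoherent] :
    Coh.toAb (tilde ((Tilde.specΓ Γ(X, V)).obj (M.restrict hV.fromSpec))) ≅
      (Groth.Agent.Lib.ZarCoh.Compare.rst hV.fromSpec.isOpenEmbedding).obj (Coh.toAb M) :=
  (SheafOfModules.toSheaf _).mapIso (Tilde.isoTildeSections (M.restrict hV.fromSpec))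

/-- Ideals cutting out `V ∖ U`. -/
def CutsOut (U : X.Opens) (I : Ideal Γ(X, V)) : Prop :=
  LocCoh.puncturedOpen Γ(X, V) I = trace hV U

theorem exists_cutsOut (U : X.Opens) : ∃ I : Ideal Γ(X, V), CutsOut hV U I := by
  refine ⟨PrimeSpectrum.vanishingIdeal (((trace hV U).1 : Set (PrimeSpectrum Γ(X, V)))ᶜ), ?_⟩
  refine TopologicalSpace.Opens.ext ?_
  show (PrimeSpectrum.zeroLocus _)ᶜ = (trace hV U).1
  rw [PrimeSpectrum.zeroLocus_vanishingIdeal_eq_closure]
  exact (congrArg Compl.compl (trace hV U).isOpen.isClosed_compl.closure_eq).trans (compl_compl _)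

lemma mem_iff {U : X.Opens} {I : Ideal Γ(X, V)} (hI : CutsOut hV U I) {x : X} (hx : x ∈ V) :
    x ∉ (U : Set X) ↔ I ≤ (hV.primeIdealOf ⟨x, hx⟩).asIdeal := by
  have h := congrArg (fun W : (Spec Γ(X, V)).Opens => hV.primeIdealOf ⟨x, hx⟩ ∈ W) hI
  have e1 : hV.primeIdealOf ⟨x, hx⟩ ∈ trace hV U ↔ x ∈ U := by
    show hV.fromSpec (hV.primeIdealOf ⟨x, hx⟩) ∈ V ⊓ U ↔ _
    rw [hV.fromSpec_primeIdealOf]
    exact ⟨fun h => h.2, fun h => ⟨hx, h⟩⟩
  have e2 : hV.primeIdealOf ⟨x, hx⟩ ∈ LocCoh.puncturedOpen Γ(X, V) I ↔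
      ¬ I ≤ (hV.primeIdealOf ⟨x, hx⟩).asIdeal := by
    show hV.primeIdealOf ⟨x, hx⟩ ∉ PrimeSpectrum.zeroLocus _ ↔ _
    rw [PrimeSpectrum.mem_zeroLocus, SetLike.coe_subset_coe]
  rw [SetLike.mem_coe, ← e1, ← iff_of_eq h, e2, not_not]

theorem exists_equiv_H [IsLocallyNoetherian X] [M.IsQuasicoherent] {U : X.Opens}
    {I : Ideal Γ(X, V)} (hI : CutsOut hV U I) (i : ℕ) :
    Nonempty (LocCohZ.HZ (X := X.carrier) (Coh.toAb M) i (inf_le_left : V ⊓ U ≤ V) ≃+
      LocCoh.H I i Γ(M, V)) := by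
  haveI : IsNoetherianRing Γ(X, V) := IsLocallyNoetherian.component_noetherian ⟨V, hV⟩
  obtain ⟨S, hS⟩ : I.FG := IsNoetherian.noetherian I
  let fs : List Γ(X, V) := S.toList
  have hfs : Ideal.span {a | a ∈ fs} = I := by
    rw [← hS]
    exact congrArg Ideal.span (Set.ext fun a => Finset.mem_toList)
  let P := (Tilde.specΓ Γ(X, V)).obj (M.restrict hV.fromSpec)
  obtain ⟨e3⟩ := Groth.Agent.Lib.Koszul.Stable.Supp.nonempty_equiv Γ(X, V) fs P i
  obtain ⟨e4⟩ := Groth.Agent.Lib.Koszul.Stable.LC.nonempty_equiv fs i P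
  have hW : LocCoh.puncturedOpen Γ(X, V) (Ideal.span {a | a ∈ fs}) = trace hV U :=
    (congrArg _ hfs).trans hI
  have hI' : Groth.Agent.Lib.Koszul.Stable.LC.idl fs = I := hfs
  rw [hW] at e3
  rw [hI'] at e4
  let e1 := EmbExcision.embHZEquiv (X := X.carrier) hV.fromSpec.isOpenEmbedding (V := V)
    (image_top hV) (inf_le_left : V ⊓ U ≤ V) (Coh.toAb M) i
  let e2 : LocCohZ.HZc (X := (Spec Γ(X, V)).carrier)
      ((Groth.Agent.Lib.ZarCoh.Compare.rst hV.fromSpec.isOpenEmbedding).obj (Coh.toAb M)) i (trace hV U) ≃+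
      LocCohZ.HZc (X := (Spec Γ(X, V)).carrier) (Coh.toAb (tilde P)) i (trace hV U) :=
    AddEquiv.ofBijective ((Ext.mk₀ (shIso M hV).inv).postcomp _ (add_zero i))
      (Function.bijective_iff_has_inverse.2
        ⟨(Ext.mk₀ (shIso M hV).hom).postcomp _ (add_zero i),
          fun x => by
            show ((x.comp (Ext.mk₀ (shIso M hV).inv) (add_zero i)).comp (Ext.mk₀ (shIso M hV).hom) (add_zero i)) = x
            rw [Ext.comp_assoc_of_second_deg_zero, Ext.mk₀_comp_mk₀, Iso.inv_hom_id, Ext.comp_mk₀_id],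
          fun x => by
            show ((x.comp (Ext.mk₀ (shIso M hV).hom) (add_zero i)).comp (Ext.mk₀ (shIso M hV).inv) (add_zero i)) = x
            rw [Ext.comp_assoc_of_second_deg_zero, Ext.mk₀_comp_mk₀, Iso.hom_inv_id, Ext.comp_mk₀_id]⟩)
  let e5 : LocCoh.H I i P ≃ₗ[Γ(X, V)] LocCoh.H I i Γ(M, V) :=
    ((localCohomology I i).mapIso (sectionsEquiv M hV).toModuleIso).toLinearEquiv
  exact ⟨(e1.trans e2).trans (e3.symm.trans (e4.symm.toAddEquiv.trans e5.toAddEquiv))⟩

end Groth.Agent.H30.LocZ.AffineBridge
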