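import Groth.Agent.H30.LocZ.Vanish
import Groth.Agent.Lib.ZarCoh.Compare
import Mathlib.CategoryTheory.Adjunction.FullyFaithful

/-!
# Sheaves supported in a closed subset, and `i_* ⊣ i⁻¹ Γ_Z`

`pushFF`: `i_*` is fully faithful; `isIso_unit`: sheaves vanishing on `U` are direct images from `Z`;
`adj : CohTop.push i ⊣ sectSuppF U ⋙ CohTop.pull i`.
-/

set_option autoImplicit false
set_option linter.style.haveILetI false

universe u

open CategoryTheory Limits Opposite TopologicalSpace
open Groth.Agent.Lib.SiteCoh.Basic Groth.Agent.Lib.LocCohSS.Basic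
open Groth.Agent.H30.LocZ.Vanish

namespace Groth.Agent.H30.LocZ.ClosedAdj

variable {X : TopCat.{u}} (U : Opens X)

/-- The closed subspace `Z = X ∖ U`. -/
abbrev Zc : TopCat.{u} := TopCat.of ((U : Set X)ᶜ : Set X)

/-- The largest open with trace `W` on `Z`. -/
def ext (W : Opens (Zc U)) : Opens X :=
  ⟨{x | ∀ h : x ∈ ((U : Set X)ᶜ : Set X), (⟨x, h⟩ : Zc U) ∈ W}, by
    obtain ⟨O, hO, hOW⟩ := isOpen_induced_iff.1 W.2
    have : {x | ∀ h : x ∈ ((U : Set X)ᶜ : Set X), (⟨x, h⟩ : Zc U) ∈ W} = O ∪ (U : Set X) := by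
      ext x
      constructor
      · intro hx
        by_cases h : x ∈ (U : Set X)
        · exact Or.inr h
        · exact Or.inl ((Set.ext_iff.1 hOW ⟨x, h⟩).2 (hx h))
      · intro hx h
        rcases hx with hx | hx
        · exact (Set.ext_iff.1 hOW ⟨x, h⟩).1 hx
        · exact absurd hx h
    rw [this]
    exact hO.union U.2⟩

lemma ext_mono {W W' : Opens (Zc U)} (h : W ≤ W') : ext U W ≤ ext U W' :=
  fun _ hx hz => h (hx hz)

lemma preimage_ext (W : Opens (Zc U)) : (Opens.map (CohCx.inclCompl U)).obj (ext U W) = W := by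
  ext z
  exact ⟨fun hz => hz z.2, fun hz _ => hz⟩

lemma le_ext (O : Opens X) : O ≤ ext U ((Opens.map (CohCx.inclCompl U)).obj O) :=
  fun _ hx _ => hx

lemma ext_le_sup (O : Opens X) : ext U ((Opens.map (CohCx.inclCompl U)).obj O) ≤ O ⊔ U := by
  intro x hx
  by_cases h : x ∈ (U : Set X)
  · exact Or.inr h
  · exact Or.inl (hx h)

/-- A component of a map between direct images. -/
def comp' {G G' : CohTop.Ab (Zc U)}
    (φ : (CohTop.push (CohCx.inclCompl U)).obj G ⟶ (CohTop.push (CohCx.inclCompl U)).obj G')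
    (O : Opens X) : G.obj.obj (op ((Opens.map (CohCx.inclCompl U)).obj O)) ⟶
      G'.obj.obj (op ((Opens.map (CohCx.inclCompl U)).obj O)) :=
  φ.hom.app (op O)

lemma comp'_nat {G G' : CohTop.Ab (Zc U)}
    (φ : (CohTop.push (CohCx.inclCompl U)).obj G ⟶ (CohTop.push (CohCx.inclCompl U)).obj G')
    {O O' : Opens X} (h : O' ≤ O) :
    G.obj.map ((Opens.map (CohCx.inclCompl U)).map (homOfLE h)).op ≫ comp' U φ O' =
      comp' U φ O ≫ G'.obj.map ((Opens.map (CohCx.inclCompl U)).map (homOfLE h)).op :=
  φ.hom.naturality (homOfLE h).op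

/-- `i_*` of a morphism-preimage. -/
noncomputable def preMap {G G' : CohTop.Ab (Zc U)}
    (φ : (CohTop.push (CohCx.inclCompl U)).obj G ⟶ (CohTop.push (CohCx.inclCompl U)).obj G') :
    G ⟶ G' :=
  ObjectProperty.homMk
    { app := fun W => G.obj.map (eqToHom (preimage_ext U W.unop)).op ≫
        comp' U φ (ext U W.unop) ≫ G'.obj.map (eqToHom (preimage_ext U W.unop).symm).op
      naturality := fun W W' g => by
        have hn := comp'_nat U φ (ext_mono U (leOfHom g.unop))
        rw [← Category.assoc, ← G.obj.map_comp,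
          show g ≫ (eqToHom (preimage_ext U W'.unop)).op = (eqToHom (preimage_ext U W.unop)).op ≫
            ((Opens.map (CohCx.inclCompl U)).map (homOfLE (ext_mono U (leOfHom g.unop)))).op from
            Subsingleton.elim _ _, G.obj.map_comp, Category.assoc, ← Category.assoc (G.obj.map _)
              (comp' U φ _), hn, Category.assoc, Category.assoc, Category.assoc, ← G'.obj.map_comp,
          ← G'.obj.map_comp]
        exact congrArg (fun t => _ ≫ _ ≫ G'.obj.map t) (Subsingleton.elim _ _) }

/-- Direct image along the closed embedding is fully faithful. -/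
noncomputable def pushFF : (CohTop.push (CohCx.inclCompl U)).FullyFaithful where
  preimage φ := preMap U φ
  map_preimage {G G'} φ := by
    refine CategoryTheory.Sheaf.hom_ext (NatTrans.ext (funext fun O => ?_))
    have hn := comp'_nat U φ (le_ext U O.unop)
    change G.obj.map (eqToHom (preimage_ext U _)).op ≫ comp' U φ (ext U _) ≫
      G'.obj.map (eqToHom (preimage_ext U _).symm).op = comp' U φ O.unop
    rw [show (eqToHom (preimage_ext U ((Opens.map (CohCx.inclCompl U)).obj O.unop)).symm).op =
      ((Opens.map (CohCx.inclCompl U)).map (homOfLE (le_ext U O.unop))).op from Subsingleton.elim _ _,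
      ← hn, ← Category.assoc, ← G.obj.map_comp]
    exact (congrArg (fun t => G.obj.map t ≫ comp' U φ O.unop) (Subsingleton.elim _ (𝟙 _))).trans
      ((congrArg (· ≫ comp' U φ O.unop) (G.obj.map_id _)).trans (Category.id_comp _))
  preimage_map {G G'} f := by
    refine CategoryTheory.Sheaf.hom_ext (NatTrans.ext (funext fun W => ?_))
    change G.obj.map (eqToHom (preimage_ext U W.unop)).op ≫ f.hom.app (op _) ≫
      G'.obj.map (eqToHom (preimage_ext U W.unop).symm).op = f.hom.app W
    rw [← f.hom.naturality, ← Category.assoc, ← G.obj.map_comp]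
    exact (congrArg (fun t => G.obj.map t ≫ f.hom.app W) (Subsingleton.elim _ (𝟙 _))).trans
      ((congrArg (· ≫ f.hom.app W) (G.obj.map_id _)).trans (Category.id_comp _))

/-- A sheaf with no sections inside `U`. -/
def VanishesOn (A : CohTop.Ab X) : Prop :=
  ∀ O : Opens X, O ≤ U → ∀ s : A.obj.obj (op O), s = 0

variable {U}

lemma res_bijective {A : CohTop.Ab X} (hA : VanishesOn U A) {O O' : Opens X} (h : O ≤ O')
    (hU : O' ≤ O ⊔ U) : Function.Bijective (A.obj.map (homOfLE h).op) := by
  let C : ULift.{u} Bool → Opens X := fun b => cond b.down O (O' ⊓ U)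
  have hC : ∀ b, C b ≤ O' := fun b => by
    rcases b with ⟨_ | _⟩
    exacts [inf_le_left, h]
  have hcov : O' ≤ iSup C := fun x hx => by
    rcases hU hx with hx' | hx'
    · exact Opens.mem_iSup.2 ⟨⟨true⟩, hx'⟩
    · exact Opens.mem_iSup.2 ⟨⟨false⟩, ⟨hx, hx'⟩⟩
  constructor
  · refine (injective_iff_map_eq_zero _).2 fun s hs => ?_
    refine TopCat.Sheaf.eq_of_locally_eq' (A : TopCat.Sheaf AddCommGrpCat.{u} X) C O'
      (fun b => homOfLE (hC b)) hcov s 0 fun b => ?_
    rw [map_zero]
    rcases b with ⟨_ | _⟩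
    · exact hA _ inf_le_right _
    · exact hs
  · intro t
    obtain ⟨s, hs, -⟩ := TopCat.Sheaf.existsUnique_gluing' (A : TopCat.Sheaf AddCommGrpCat.{u} X) C O'
      (fun b => homOfLE (hC b)) hcov (fun b => match b with | ⟨true⟩ => t | ⟨false⟩ => 0)
      (fun a b => by
        rcases a with ⟨_ | _⟩
        · exact (hA _ (inf_le_left.trans inf_le_right) _).trans (hA _ (inf_le_left.trans inf_le_right) _).symm
        · rcases b with ⟨_ | _⟩
          · exact (hA _ (inf_le_right.trans inf_le_right) _).trans (hA _ (inf_le_right.trans inf_le_right) _).symm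
          · rfl)
    exact ⟨s, hs ⟨true⟩⟩

variable (U)

/-- The sheaf on `Z` of a sheaf vanishing on `U`. -/
noncomputable def toClosed (A : CohTop.Ab X) (hA : VanishesOn U A) : CohTop.Ab (Zc U) where
  obj :=
    { obj := fun W => A.obj.obj (op (ext U W.unop))
      map := fun g => A.obj.map (homOfLE (ext_mono U (leOfHom g.unop))).op
      map_id := fun W => A.obj.map_id _
      map_comp := fun f g => (congrArg A.obj.map (Subsingleton.elim _ _)).trans (A.obj.map_comp _ _) }
  property := by
    refine (TopCat.Presheaf.isSheaf_iff_isSheafUniqueGluing _).2 fun {ι} W sf hsf => ?_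
    have hle : (⨆ k, ext U (W k)) ≤ ext U (iSup W) :=
      iSup_le fun k => ext_mono U (le_iSup W k)
    have hsup : ext U (iSup W) ≤ (⨆ k, ext U (W k)) ⊔ U := fun x hx => by
      by_cases h : x ∈ (U : Set X)
      · exact Or.inr h
      · obtain ⟨k, hk⟩ := Opens.mem_iSup.1 (hx h)
        exact Or.inl (Opens.mem_iSup.2 ⟨k, fun _ => hk⟩)
    obtain ⟨g, hg, hguniq⟩ := TopCat.Sheaf.existsUnique_gluing
      (A : TopCat.Sheaf AddCommGrpCat.{u} X) (fun k => ext U (W k)) sf (fun k l => by
        have hkl : ext U (W k) ⊓ ext U (W l) ≤ ext U (W k ⊓ W l) := fun x hx h => ⟨hx.1 h, hx.2 h⟩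
        have := congrArg (A.obj.map (homOfLE hkl).op) (hsf k l)
        refine Eq.trans ?_ (this.trans ?_)
        · exact (ConcreteCategory.congr_hom (A.obj.map_comp _ _) _).symm.trans
            (congrArg (fun t => A.obj.map t _) (Subsingleton.elim _ _)) |>.symm
        · exact (ConcreteCategory.congr_hom (A.obj.map_comp _ _) _).symm.trans
            (congrArg (fun t => A.obj.map t _) (Subsingleton.elim _ _)))
    obtain ⟨s, hs⟩ := (res_bijective hA hle hsup).2 g
    have hr : ∀ (s' : A.obj.obj (op (ext U (iSup W)))) (k : ι),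
        A.obj.map (homOfLE (ext_mono U (le_iSup W k))).op s' =
          A.obj.map (Opens.leSupr (fun k => ext U (W k)) k).op (A.obj.map (homOfLE hle).op s') :=
      fun s' k => (congrArg (fun t => A.obj.map t s') (Subsingleton.elim _ _)).trans
        (ConcreteCategory.congr_hom (A.obj.map_comp _ _) s')
    refine ⟨s, fun k => ?_, fun s' hs' => (res_bijective hA hle hsup).1 ((hguniq _ fun k => ?_).trans hs.symm)⟩
    · exact (hr s k).trans ((congrArg _ hs).trans (hg k))
    · exact (hr s' k).symm.trans (hs' k)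

/-- A sheaf vanishing on `U` is the direct image of its trace on `Z`. -/
noncomputable def toClosedIso (A : CohTop.Ab X) (hA : VanishesOn U A) :
    A ≅ (CohTop.push (CohCx.inclCompl U)).obj (toClosed U A hA) :=
  Iso.symm ((fullyFaithfulSheafToPresheaf _ _).preimageIso
    (NatIso.ofComponents
      (fun O => @asIso _ _ _ _ (A.obj.map (homOfLE (le_ext U O.unop)).op)
        ((ConcreteCategory.isIso_iff_bijective _).2
          (res_bijective hA (le_ext U O.unop) (ext_le_sup U O.unop))))
      (fun {O O'} g => by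
        change A.obj.map _ ≫ A.obj.map _ = A.obj.map _ ≫ A.obj.map g
        rw [← A.obj.map_comp, ← A.obj.map_comp]
        exact congrArg _ (Subsingleton.elim _ _))))

theorem isIso_unit (A : CohTop.Ab X) (hA : VanishesOn U A) :
    IsIso ((TopCat.Sheaf.pullbackPushforwardAdjunction AddCommGrpCat.{u}
      (CohCx.inclCompl U)).unit.app A) := by
  haveI : (TopCat.Sheaf.pushforward AddCommGrpCat.{u} (CohCx.inclCompl U)).Full := (pushFF U).full
  haveI : (TopCat.Sheaf.pushforward AddCommGrpCat.{u} (CohCx.inclCompl U)).Faithful :=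
    (pushFF U).faithful
  exact Adjunction.isIso_unit_app_of_iso (h := TopCat.Sheaf.pullbackPushforwardAdjunction
    AddCommGrpCat.{u} (CohCx.inclCompl U)) (toClosedIso U A hA)

lemma vanishesOn_sectSupp (F : CohTop.Ab X) : VanishesOn U ((LocCohZ.sectSuppF U).obj F) := by
  intro O hO s
  apply (homEquiv O _).symm.injective
  apply (supp U F O).injective
  apply (homZqEquiv _ F).injective
  rw [map_zero, map_zero, map_zero]
  refine Subtype.ext ?_
  have h2 : F.obj.map (homOfLE (inf_le_left : O ⊓ U ≤ O)).op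
      (homZqEquiv _ F (supp U F O ((homEquiv O _).symm s))).1 = 0 :=
    (homZqEquiv _ F (supp U F O ((homEquiv O _).symm s))).2
  haveI : IsIso (F.obj.map (homOfLE (inf_le_left : O ⊓ U ≤ O)).op) := by
    have : IsIso (homOfLE (inf_le_left : O ⊓ U ≤ O)) :=
      ⟨homOfLE (le_inf le_rfl hO), Subsingleton.elim _ _, Subsingleton.elim _ _⟩
    infer_instance
  exact ((ConcreteCategory.isIso_iff_bijective _).1 inferInstance).1 (h2.trans (map_zero _).symm)

lemma preimage_le_bot {O : Opens X} (h : O ≤ U) : (Opens.map (CohCx.inclCompl U)).obj O = ⊥ :=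
  eq_bot_iff.2 fun z hz => (z.2 (h hz)).elim

lemma comp_unit_eq_zero (G : CohTop.Ab (Zc U)) {F : CohTop.Ab X}
    (φ : (CohTop.push (CohCx.inclCompl U)).obj G ⟶ F) :
    φ ≫ (TopCat.Sheaf.pullbackPushforwardAdjunction AddCommGrpCat.{u} (CohCx.incl U)).unit.app F =
      (0 : (CohTop.push (CohCx.inclCompl U)).obj G ⟶
        (CohTop.pull (CohCx.incl U) ⋙ CohTop.push (CohCx.incl U)).obj F) := by
  refine CategoryTheory.Sheaf.hom_ext (NatTrans.ext (funext fun V => AddCommGrpCat.hom_ext
    (AddMonoidHom.ext fun s => ?_)))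
  change ((TopCat.Sheaf.pullbackPushforwardAdjunction AddCommGrpCat.{u} (CohCx.incl U)).unit.app F).hom.app
    V (φ.hom.app V s) = 0
  refine (unit_app_eq_zero_iff' U F (image_preimage_eq U V.unop) inf_le_left (φ.hom.app V s)).2 ?_
  refine (NatTrans.naturality_apply φ.hom (homOfLE (inf_le_left : V.unop ⊓ U ≤ V.unop)).op s).symm.trans ?_
  refine (congrArg _ ?_).trans (map_zero (φ.hom.app (op (V.unop ⊓ U))).hom)
  refine TopCat.Presheaf.section_ext (C := AddCommGrpCat.{u}) (X := Zc U) G _ _ _ fun z hz => ?_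
  exact ((preimage_le_bot U (inf_le_right : V.unop ⊓ U ≤ U)).le hz).elim

/-- Maps from a sheaf on `Z` are maps into sections with supports. -/
noncomputable def liftEquiv (G : CohTop.Ab (Zc U)) (F : CohTop.Ab X) :
    ((CohTop.push (CohCx.inclCompl U)).obj G ⟶ F) ≃
      ((CohTop.push (CohCx.inclCompl U)).obj G ⟶ (LocCohZ.sectSuppF U).obj F) where
  toFun φ := kernel.lift _ φ (comp_unit_eq_zero U G φ)
  invFun ψ := ψ ≫ kernel.ι _
  left_inv φ := kernel.lift_ι _ _ _
  right_inv ψ := equalizer.hom_ext (kernel.lift_ι _ _ _)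

/-- The unit at sections with supports. -/
noncomputable def unitIso (F : CohTop.Ab X) :
    (LocCohZ.sectSuppF U).obj F ≅ (CohTop.push (CohCx.inclCompl U)).obj
      ((CohTop.pull (CohCx.inclCompl U)).obj ((LocCohZ.sectSuppF U).obj F)) :=
  @asIso _ _ _ _ ((TopCat.Sheaf.pullbackPushforwardAdjunction AddCommGrpCat.{u}
    (CohCx.inclCompl U)).unit.app _) (isIso_unit U _ (vanishesOn_sectSupp U F))

lemma unitIso_naturality {F F' : CohTop.Ab X} (h : F ⟶ F') :
    (LocCohZ.sectSuppF U).map h ≫ (unitIso U F').hom = (unitIso U F).hom ≫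
      (CohTop.push (CohCx.inclCompl U)).map
        ((CohTop.pull (CohCx.inclCompl U)).map ((LocCohZ.sectSuppF U).map h)) :=
  (TopCat.Sheaf.pullbackPushforwardAdjunction AddCommGrpCat.{u}
    (CohCx.inclCompl U)).unit.naturality _

/-- `Hom(i_* G, F) = Hom(G, i⁻¹ Γ_Z F)`. -/
noncomputable def homEqv (G : CohTop.Ab (Zc U)) (F : CohTop.Ab X) :
    ((CohTop.push (CohCx.inclCompl U)).obj G ⟶ F) ≃
      (G ⟶ (LocCohZ.sectSuppF U ⋙ CohTop.pull (CohCx.inclCompl U)).obj F) :=
  (liftEquiv U G F).trans (((unitIso U F).homToEquiv).trans (pushFF U).homEquiv.symm)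

lemma homEqv_symm_apply (G : CohTop.Ab (Zc U)) (F : CohTop.Ab X)
    (g : G ⟶ (LocCohZ.sectSuppF U ⋙ CohTop.pull (CohCx.inclCompl U)).obj F) :
    (homEqv U G F).symm g =
      ((CohTop.push (CohCx.inclCompl U)).map g ≫ (unitIso U F).inv) ≫ kernel.ι _ := rfl

/-- `i_* ⊣ i⁻¹ Γ_Z`. -/
noncomputable def adj : CohTop.push (CohCx.inclCompl U) ⊣
    LocCohZ.sectSuppF U ⋙ CohTop.pull (CohCx.inclCompl U) :=
  Adjunction.mkOfHomEquiv
    { homEquiv := homEqv U
      homEquiv_naturality_left_symm := fun {G' G F} f g => by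
        simp only [homEqv_symm_apply, Functor.map_comp]
        exact (congrArg (· ≫ kernel.ι _) (Category.assoc _ _ _)).trans (Category.assoc _ _ _)
      homEquiv_naturality_right := fun {G F F'} f g => by
        obtain ⟨k, rfl⟩ := (homEqv U G F).symm.surjective f
        apply (homEqv U G F').symm.injective
        rw [Equiv.apply_symm_apply, Equiv.symm_apply_apply, homEqv_symm_apply, homEqv_symm_apply,
          Functor.map_comp]
        refine Eq.trans (Category.assoc _ _ _) ?_
        refine Eq.trans ?_ (congrArg (· ≫ kernel.ι _) (Category.assoc _ _ _)).symm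
        refine Eq.trans ?_ (Category.assoc _ _ _).symm
        refine (Category.assoc _ _ _).trans (congrArg _ ?_)
        have e : (CohTop.push (CohCx.inclCompl U)).map
            ((CohTop.pull (CohCx.inclCompl U)).map ((LocCohZ.sectSuppF U).map g)) ≫ (unitIso U F').inv =
              (unitIso U F).inv ≫ (LocCohZ.sectSuppF U).map g := by
          rw [Iso.comp_inv_eq, Category.assoc, unitIso_naturality, Iso.inv_hom_id_assoc]
        refine Eq.trans ?_ ((congrArg (· ≫ kernel.ι _) e).trans (Category.assoc _ _ _)).symm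
        exact congrArg _ (kernel.lift_ι _ _ _).symm }

end Groth.Agent.H30.LocZ.ClosedAdj

namespace Groth.Agent.H30.LocZ.ClosedAdj

variable {X : TopCat.{u}} (U : Opens X)

/-- Sections with supports preserve injectives. -/
theorem injective_sectSupp (I : CohTop.Ab X) [Injective I] :
    Injective ((LocCohZ.sectSuppF U).obj I) := by
  haveI : PreservesFiniteLimits (CohTop.push (CohCx.inclCompl U)) :=
    haveI : PreservesLimitsOfSize.{0, 0} (CohTop.push (CohCx.inclCompl U)) :=
      (TopCat.Sheaf.pullbackPushforwardAdjunction AddCommGrpCat.{u}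
        (CohCx.inclCompl U)).rightAdjoint_preservesLimits
    PreservesLimitsOfSize.preservesFiniteLimits _
  haveI h1 : Injective ((LocCohZ.sectSuppF U ⋙ CohTop.pull (CohCx.inclCompl U)).obj I) :=
    (adj U).map_injective I inferInstance
  refine Injective.of_iso (unitIso U I).symm ?_
  haveI : PreservesFiniteLimits (TopCat.Sheaf.pullback AddCommGrpCat.{u} (CohCx.inclCompl U)) :=
    Groth.Agent.Lib.ZarCoh.Compare.pull_preservesFiniteLimits _
  haveI : (TopCat.Sheaf.pullback AddCommGrpCat.{u} (CohCx.inclCompl U)).PreservesMonomorphisms :=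
    preservesMonomorphisms_of_preservesLimitsOfShape _
  refine (TopCat.Sheaf.pullbackPushforwardAdjunction AddCommGrpCat.{u}
    (CohCx.inclCompl U)).map_injective _ h1

end Groth.Agent.H30.LocZ.ClosedAdj
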