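import Groth.Agent.H30.LocZ.DepthStalk
import Groth.Agent.Lib.LCFin.Cd
import Groth.Agent.Lib.LocalCoh.Resolution

/-!
# Vanishing of local cohomology sheaves above the dimension
-/

set_option autoImplicit false
set_option linter.style.haveILetI false

universe u

open CategoryTheory Limits TopologicalSpace AlgebraicGeometry
open Groth.Agent.Lib

namespace Groth.Agent.H30.LocZ.DimVanish

variable {X : Scheme.{u}} [IsLocallyNoetherian X] (U : X.Opens)

theorem isZero_HZsh_of_dim_lt {G : X.Modules} (hG : Coh.IsCoh G) (i : ℕ)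
    (hi : ∀ x : X, x ∉ (U : Set X) → ringKrullDim (X.presheaf.stalk x) < (i : WithBot ℕ∞)) :
    IsZero ((LocCohZ.HZsh (X := X.carrier) U i).obj (Coh.toAb G)) := by
  rcases Nat.eq_zero_or_pos i with rfl | hpos
  · refine (DepthStalk.isZero_HZsh_below_iff U hG 1).2 (fun x hx => ?_) 0 Nat.one_pos
    exact absurd (hi x hx) (not_lt.2 (by exact_mod_cast ringKrullDim_nonneg_of_nontrivial))
  obtain ⟨d, rfl⟩ : ∃ d, i = d + 1 := ⟨i - 1, by omega⟩
  haveI := hG.1
  refine DepthStalk.isZero_HZsh_of_basis U (Coh.toAb G) _ X.isBasis_affineOpens (d + 1) fun V hV => ?_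
  haveI : IsNoetherianRing Γ(X, V) := IsLocallyNoetherian.component_noetherian ⟨V, hV⟩
  obtain ⟨I, hI⟩ := AffineBridge.exists_cutsOut hV U
  obtain ⟨e⟩ := AffineBridge.exists_equiv_H G hV hI (d + 1)
  suffices LocCoh.CdLE Γ(X, V) I d by
    haveI := this Γ(G, V) (d + 1) (Nat.lt_succ_self d)
    exact e.toEquiv.subsingleton
  refine LCFin.Cd.cdLE_of_localizations fun p _ => ?_
  by_cases hp : I ≤ p
  · let q : PrimeSpectrum Γ(X, V) := ⟨p, ‹_›⟩
    have hxV : hV.fromSpec q ∈ V := (Set.ext_iff.1 hV.range_fromSpec _).1 ⟨q, rfl⟩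
    have hpe : hV.primeIdealOf ⟨hV.fromSpec q, hxV⟩ = q :=
      hV.fromSpec.isOpenEmbedding.injective (hV.fromSpec_primeIdealOf _)
    have hlt := hi _ ((AffineBridge.mem_iff hV hI hxV).2 (hpe.symm ▸ hp))
    letI := TopCat.Presheaf.algebra_section_stalk X.presheaf (⟨hV.fromSpec q, hxV⟩ : V)
    have hloc : IsLocalization.AtPrime (X.presheaf.stalk (hV.fromSpec q)) p := by
      have := hV.isLocalization_stalk ⟨hV.fromSpec q, hxV⟩
      rw [hpe] at this
      exact this
    haveI := hloc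
    refine LCFin.Cd.cdLE_of_ringKrullDim _ d ?_
    rw [ringKrullDim_eq_of_ringEquiv (IsLocalization.algEquiv p.primeCompl
      (Localization.AtPrime p) (X.presheaf.stalk (hV.fromSpec q))).toRingEquiv]
    exact ENat.WithBot.lt_add_one_iff.1 (by exact_mod_cast hlt)
  · have htop : I.map (algebraMap Γ(X, V) (Localization.AtPrime p)) = ⊤ := by
      obtain ⟨f, hf, hfp⟩ := Set.not_subset.1 hp
      exact Ideal.eq_top_of_isUnit_mem _ (Ideal.mem_map_of_mem _ hf)
        (IsLocalization.map_units _ (⟨f, hfp⟩ : p.primeCompl))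
    intro N _ _ j _
    rw [htop]
    exact LocalCoh.lc_subsingleton_of_smul_bijective ⊤ j (ModuleCat.of _ N)
      (b := (1 : Localization.AtPrime p)) trivial (⟨fun a b h => by simpa using h, fun a => ⟨a, one_smul _ a⟩⟩)

end Groth.Agent.H30.LocZ.DimVanish
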