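import Groth.Agent.Lib.LocCohSS.Basic
import Groth.Agent.Lib.ZarCoh.Compare

/-!
# Excision along an open embedding

`embHZEquiv`: for an open embedding `e : Y → X` with image `V` and `W ≤ V`,
`H^i_{V∖W}(V, F) = H^i_{e⁻¹(V∖W)}(Y, F|_Y)`.
-/

set_option autoImplicit false

universe u

open CategoryTheory Limits Opposite TopologicalSpace Abelian
open Groth.Agent.Lib.SiteCoh.Basic Groth.Agent.Lib.LocCohSS.Basic Groth.Agent.Lib.ZarCoh.Compare

namespace Groth.Agent.H30.LocZ.EmbExcision

variable {X Y : TopCat.{u}} {e : Y ⟶ X} (he : Topology.IsOpenEmbedding e)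
  {W V : Opens X} (hV : he.functor.obj ⊤ = V) (h : W ≤ V)

include hV h in
lemma obj_preimage : he.functor.obj ((Opens.map e).obj W) = W := by
  ext x
  refine ⟨fun ⟨y, hy, hyx⟩ => hyx ▸ hy, fun hx => ?_⟩
  have hx' := h hx
  rw [← hV] at hx'
  obtain ⟨y, -, rfl⟩ := hx'
  exact ⟨y, hx, rfl⟩

variable (F : CohTop.Ab X)

lemma map_map_le {A B C : Opens X} (p : C ≤ B) (q : B ≤ A) (s : F.obj.obj (op A)) :
    F.obj.map (homOfLE p).op (F.obj.map (homOfLE q).op s) =
      F.obj.map (homOfLE (p.trans q)).op s := by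
  rw [← ConcreteCategory.comp_apply, ← Functor.map_comp]
  rfl

lemma map_le_self {A : Opens X} (p : A ≤ A) (s : F.obj.obj (op A)) :
    F.obj.map (homOfLE p).op s = s := by
  rw [show homOfLE p = 𝟙 A from rfl, op_id, F.obj.map_id]
  rfl

/-- Sections with supports over `V` as sections with supports on `Y`. -/
noncomputable def sigma : LocCohZ.sectZ F h ≃+
    LocCohZ.sectZ ((rst he).obj F) (le_top : (Opens.map e).obj W ≤ ⊤) where
  toFun s := ⟨F.obj.map (homOfLE hV.le).op s.1, by
    show F.obj.map (homOfLE (he.functor.monotone le_top)).op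
      (F.obj.map (homOfLE hV.le).op s.1) = 0
    rw [map_map_le, ← map_map_le F (obj_preimage he hV h).le h,
      show F.obj.map (homOfLE h).op s.1 = 0 from s.2, map_zero]⟩
  invFun t := ⟨F.obj.map (homOfLE hV.ge).op t.1, by
    have ht : F.obj.map (homOfLE (he.functor.monotone
      (le_top : (Opens.map e).obj W ≤ ⊤))).op t.1 = 0 := t.2
    show F.obj.map (homOfLE h).op (F.obj.map _ t.1) = 0
    exact (map_map_le F _ _ _).trans ((map_map_le F (obj_preimage he hV h).ge
      (he.functor.monotone (le_top : (Opens.map e).obj W ≤ ⊤)) _).symm.trans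
      ((congrArg _ ht).trans (map_zero _)))⟩
  left_inv s := Subtype.ext ((map_map_le F _ _ _).trans (map_le_self F _ _))
  right_inv t := Subtype.ext ((map_map_le F _ _ _).trans (map_le_self F _ _))
  map_add' s t := Subtype.ext (map_add _ _ _)

lemma homZqEquiv_comp {Z : TopCat.{u}} {A B : Opens Z} (hAB : A ≤ B) {P Q : CohTop.Ab Z}
    (a : LocCohZ.zq hAB ⟶ P) (φ : P ⟶ Q) :
    (homZqEquiv hAB Q (a ≫ φ)).1 = φ.hom.app (op B) (homZqEquiv hAB P a).1 := by
  show homEquiv B Q (cokernel.π _ ≫ a ≫ φ) = φ.hom.app (op B) (homEquiv B P (cokernel.π _ ≫ a))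
  rw [← Category.assoc, homEquiv_comp]

/-- The tautological map `ℤ_Y/ℤ_{e⁻¹W} → (ℤ_V/ℤ_W)|_Y`. -/
noncomputable def tautMap :
    LocCohZ.zq (le_top : (Opens.map e).obj W ≤ ⊤) ⟶ (rst he).obj (LocCohZ.zq h) :=
  (homZqEquiv _ _).symm (sigma he hV h _ (homZqEquiv h _ (𝟙 _)))

lemma tautMap_comp (g : LocCohZ.zq h ⟶ F) :
    tautMap he hV h ≫ (rst he).map g =
      (homZqEquiv _ _).symm (sigma he hV h F (homZqEquiv h F g)) := by
  apply (homZqEquiv _ _).injective
  rw [AddEquiv.apply_symm_apply]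
  apply Subtype.ext
  rw [homZqEquiv_comp, tautMap, AddEquiv.apply_symm_apply]
  refine (NatTrans.naturality_apply g.hom (homOfLE hV.le).op _).trans ?_
  show F.obj.map _ (g.hom.app (op V) (homZqEquiv h _ (𝟙 _)).1) = _
  rw [← homZqEquiv_comp, Category.id_comp]
  rfl

theorem cmp_tautMap_bijective (i : ℕ) :
    Function.Bijective (cmp (rst he) (tautMap he hV h) i F) := by
  refine cmp_bijective (rst he) _ (fun G => ?_) (fun G hG => rst_flasque he G)
    (fun G m hG => subsingleton_HZ_flasque G le_top m) i F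
  have eq : (fun g : LocCohZ.zq h ⟶ G => tautMap he hV h ≫ (rst he).map g) =
      fun g => (homZqEquiv _ _).symm (sigma he hV h G (homZqEquiv h G g)) :=
    funext fun g => tautMap_comp he hV h G g
  rw [eq]
  exact (homZqEquiv _ _).symm.bijective.comp
    ((sigma he hV h G).bijective.comp (homZqEquiv h G).bijective)

/-- Excision along an open embedding. -/
noncomputable def embHZEquiv (i : ℕ) : LocCohZ.HZ F i h ≃+
    LocCohZ.HZc ((rst he).obj F) i ((Opens.map e).obj W) :=
  AddEquiv.ofBijective _ (cmp_tautMap_bijective he hV h F i)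

end Groth.Agent.H30.LocZ.EmbExcision
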