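import Groth.Agent.Lib.LocCohSS.Basic
import Groth.Agent.Lib.ZarCoh.Compare
import Groth.Agent.H30.RpushRestr

/-!
# Excision: cohomology with supports in `V ∖ W` computed on `V`

`restrHZEquiv h i F : HZ F i h ≃+ HZc (F|_V) i W`, natural in `F` (`restrHZEquiv_map`).
-/

set_option autoImplicit false

universe u

open CategoryTheory Limits Opposite TopologicalSpace Abelian
open Groth.Agent.Lib.SiteCoh.Basic Groth.Agent.Lib.LocCohSS.Basic

namespace Groth.Agent.H30.LocZ.Excision

variable {X : TopCat.{u}} {W V : Opens X}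

lemma obj_preimage (h : W ≤ V) :
    V.isOpenEmbedding.isOpenMap.functor.obj ((Opens.map (CohCx.incl V)).obj W) = W := by
  ext x
  exact ⟨fun ⟨y, hy, e⟩ => e ▸ hy, fun hx => ⟨⟨x, h hx⟩, hx, rfl⟩⟩

lemma map_map_le (F : CohTop.Ab X) {A B C : Opens X} (p : C ≤ B) (q : B ≤ A) (s : F.obj.obj (op A)) :
    F.obj.map (homOfLE p).op (F.obj.map (homOfLE q).op s) =
      F.obj.map (homOfLE (p.trans q)).op s := by
  rw [← ConcreteCategory.comp_apply, ← Functor.map_comp]
  rfl

lemma map_le_self (F : CohTop.Ab X) {A : Opens X} (p : A ≤ A) (s : F.obj.obj (op A)) :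
    F.obj.map (homOfLE p).op s = s := by
  rw [show homOfLE p = 𝟙 A from rfl, op_id, F.obj.map_id]
  rfl

variable (h : W ≤ V) (F : CohTop.Ab X)

/-- Sections with supports over `V` as sections with supports on the space `V`. -/
noncomputable def sigma : LocCohZ.sectZ F h ≃+
    LocCohZ.sectZ (CohTop.restr F V) (le_top : (Opens.map (CohCx.incl V)).obj W ≤ ⊤) where
  toFun s := ⟨F.obj.map (homOfLE (isOpenEmbedding_obj_top V).le).op s.1, by
    show F.obj.map (homOfLE (V.isOpenEmbedding.isOpenMap.functor.monotone le_top)).op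
      (F.obj.map (homOfLE (isOpenEmbedding_obj_top V).le).op s.1) = 0
    rw [map_map_le, ← map_map_le F (obj_preimage h).le h,
      show F.obj.map (homOfLE h).op s.1 = 0 from s.2, map_zero]⟩
  invFun t := ⟨F.obj.map (homOfLE (isOpenEmbedding_obj_top V).ge).op t.1, by
    have ht : F.obj.map (homOfLE (V.isOpenEmbedding.isOpenMap.functor.monotone
      (le_top : (Opens.map (CohCx.incl V)).obj W ≤ ⊤))).op t.1 = 0 := t.2
    show F.obj.map (homOfLE h).op (F.obj.map _ t.1) = 0
    exact (map_map_le F _ _ _).trans ((map_map_le F (obj_preimage h).ge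
      (V.isOpenEmbedding.isOpenMap.functor.monotone
        (le_top : (Opens.map (CohCx.incl V)).obj W ≤ ⊤)) _).symm.trans
      ((congrArg _ ht).trans (map_zero _)))⟩
  left_inv s := Subtype.ext ((map_map_le F _ _ _).trans (map_le_self F _ _))
  right_inv t := Subtype.ext ((map_map_le F _ _ _).trans (map_le_self F _ _))
  map_add' s t := Subtype.ext (map_add _ _ _)

lemma homZqEquiv_comp {Y : TopCat.{u}} {A B : Opens Y} (hAB : A ≤ B) {P Q : CohTop.Ab Y}
    (a : LocCohZ.zq hAB ⟶ P) (φ : P ⟶ Q) :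
    (homZqEquiv hAB Q (a ≫ φ)).1 = φ.hom.app (op B) (homZqEquiv hAB P a).1 := by
  show homEquiv B Q (cokernel.π _ ≫ a ≫ φ) = φ.hom.app (op B) (homEquiv B P (cokernel.π _ ≫ a))
  rw [← Category.assoc, homEquiv_comp]

/-- The tautological map `ℤ_V/ℤ_W → (ℤ_V/ℤ_W)|_V`. -/
noncomputable def tautMap :
    LocCohZ.zq (le_top : (Opens.map (CohCx.incl V)).obj W ≤ ⊤) ⟶
      (CohTop.restrFunctor V).obj (LocCohZ.zq h) :=
  (homZqEquiv _ _).symm (sigma h _ (homZqEquiv h _ (𝟙 _)))

lemma tautMap_comp (g : LocCohZ.zq h ⟶ F) :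
    tautMap h ≫ (CohTop.restrFunctor V).map g =
      (homZqEquiv _ _).symm (sigma h F (homZqEquiv h F g)) := by
  apply (homZqEquiv _ _).injective
  rw [AddEquiv.apply_symm_apply]
  apply Subtype.ext
  rw [homZqEquiv_comp, tautMap, AddEquiv.apply_symm_apply]
  refine (NatTrans.naturality_apply g.hom (homOfLE (isOpenEmbedding_obj_top V).le).op _).trans ?_
  show F.obj.map _ (g.hom.app (op V) (homZqEquiv h _ (𝟙 _)).1) = _
  rw [← homZqEquiv_comp, Category.id_comp]
  rfl

theorem cmp_tautMap_bijective (i : ℕ) :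
    Function.Bijective
      (Groth.Agent.Lib.ZarCoh.Compare.cmp (CohTop.restrFunctor V) (tautMap h) i F) := by
  refine Groth.Agent.Lib.ZarCoh.Compare.cmp_bijective (CohTop.restrFunctor V) _ (fun G => ?_)
    (fun G hG => ?_) (fun G m hG => subsingleton_HZ_flasque G le_top m) i F
  · have e : (fun g : LocCohZ.zq h ⟶ G => tautMap h ≫ (CohTop.restrFunctor V).map g) =
        fun g => (homZqEquiv _ _).symm (sigma h G (homZqEquiv h G g)) :=
      funext fun g => tautMap_comp h G g
    rw [e]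
    exact (homZqEquiv _ _).symm.bijective.comp ((sigma h G).bijective.comp (homZqEquiv h G).bijective)
  · exact Groth.Agent.Lib.ZarCoh.Compare.rst_flasque (V.isOpenEmbedding (X := X)) G

/-- Excision. -/
noncomputable def restrHZEquiv (i : ℕ) : LocCohZ.HZ F i h ≃+
    LocCohZ.HZc (CohTop.restr F V) i ((Opens.map (CohCx.incl V)).obj W) :=
  AddEquiv.ofBijective _ (cmp_tautMap_bijective h F i)

lemma restrHZEquiv_map {F G : CohTop.Ab X} (φ : F ⟶ G) (i : ℕ) (x : LocCohZ.HZ F i h) :
    restrHZEquiv h G i (LocCohZ.map φ i h x) =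
      LocCohZ.map ((CohTop.restrFunctor V).map φ) i
        (le_top : (Opens.map (CohCx.incl V)).obj W ≤ ⊤) (restrHZEquiv h F i x) :=
  (Groth.Agent.Lib.ZarCoh.Compare.cmp_comp (CohTop.restrFunctor V) (tautMap h) x (Ext.mk₀ φ)
    (add_zero i)).trans (congrArg
      (fun z => (Groth.Agent.Lib.ZarCoh.Compare.cmp (CohTop.restrFunctor V) (tautMap h) i F x).comp
        z (add_zero i)) (Ext.mapExactFunctor_mk₀ _ _))

end Groth.Agent.H30.LocZ.Excision
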