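import Groth.Prelude.Def_LocCohZ

/-!
# The long exact sequence of cohomology with supports

* `toHU_eq_zero_cases`, `exists_res_of_delta_eq_zero`, `exists_toHU_of_res_eq_zero`;
* `subsingleton_HZ_le_iff`: `H^i_{V∖W}(V, F) = 0` for `i ≤ N` iff restriction is bijective below `N`
  and injective in degree `N`.
-/

set_option autoImplicit false

universe u

open CategoryTheory Limits Opposite TopologicalSpace Abelian

namespace Groth.Agent.H30.LocZ.LES

variable {X : TopCat.{u}} {F : CohTop.Ab X} {W V : Opens X} (h : W ≤ V)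

lemma exists_toHU_of_res_eq_zero {i : ℕ} (y : CohTop.HU F i V) (hy : CohTop.res F i h y = 0) :
    ∃ x : LocCohZ.HZ F i h, LocCohZ.toHU F i h x = y :=
  Ext.contravariant_sequence_exact₂ (LocCohZ.zqSeq_shortExact h) F y hy

lemma exists_res_of_delta_eq_zero {i : ℕ} (y : CohTop.HU F i W) (hy : LocCohZ.delta F i h y = 0) :
    ∃ x : CohTop.HU F i V, CohTop.res F i h x = y :=
  Ext.contravariant_sequence_exact₁ (LocCohZ.zqSeq_shortExact h) F y (by omega : 1 + i = i + 1) hy

lemma exists_delta_of_toHU_eq_zero {i : ℕ} (x : LocCohZ.HZ F (i + 1) h)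
    (hx : LocCohZ.toHU F (i + 1) h x = 0) : ∃ y, LocCohZ.delta F i h y = x :=
  Ext.contravariant_sequence_exact₃ (LocCohZ.zqSeq_shortExact h) F x hx (by omega : 1 + i = i + 1)

lemma delta_res {i : ℕ} (y : CohTop.HU F i V) :
    LocCohZ.delta F i h (CohTop.res F i h y) = 0 := by
  have key : ∀ z : Ext (LocCohZ.zqSeq h).X₂ F i, (LocCohZ.zqSeq_shortExact h).extClass.comp
      ((Ext.mk₀ (LocCohZ.zqSeq h).f).comp z (zero_add i)) (by omega : 1 + i = i + 1) = 0 := fun z => by
    rw [← Ext.comp_assoc (a₁₂ := 1) (a₂₃ := i) _ _ _ (add_zero 1) (zero_add i) (by omega),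
      (LocCohZ.zqSeq_shortExact h).extClass_comp, Ext.zero_comp]
  exact key y

lemma res_toHU {i : ℕ} (x : LocCohZ.HZ F i h) :
    CohTop.res F i h (LocCohZ.toHU F i h x) = 0 := by
  have key : ∀ z : Ext (LocCohZ.zqSeq h).X₃ F i, (Ext.mk₀ (LocCohZ.zqSeq h).f).comp
      ((Ext.mk₀ (LocCohZ.zqSeq h).g).comp z (zero_add i)) (zero_add i) = 0 := fun z => by
    rw [Ext.mk₀_comp_mk₀_assoc, (LocCohZ.zqSeq h).zero, Ext.mk₀_zero, Ext.zero_comp]
  exact key x

lemma toHU_zero_injective : Function.Injective (LocCohZ.toHU F 0 h) := by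
  intro a b hab
  obtain ⟨a, rfl⟩ := (Ext.mk₀_bijective _ _).2 a
  obtain ⟨b, rfl⟩ := (Ext.mk₀_bijective _ _).2 b
  change (Ext.mk₀ (cokernel.π _)).comp (Ext.mk₀ a) (zero_add 0) =
    (Ext.mk₀ (cokernel.π _)).comp (Ext.mk₀ b) (zero_add 0) at hab
  rw [Ext.mk₀_comp_mk₀, Ext.mk₀_comp_mk₀] at hab
  rw [(cancel_epi (cokernel.π _)).1 ((Ext.mk₀_bijective _ _).1 hab)]

lemma toHU_resZ {W' V' : Opens X} (h' : W' ≤ V') (hW : W' ≤ W) (hV : V' ≤ V) {i : ℕ}
    (x : LocCohZ.HZ F i h) :
    LocCohZ.toHU F i h' (LocCohZ.resZ F i h h' hW hV x) =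
      CohTop.res F i hV (LocCohZ.toHU F i h x) := by
  show (Ext.mk₀ _).comp ((Ext.mk₀ _).comp x (zero_add i)) (zero_add i) =
    (Ext.mk₀ _).comp ((Ext.mk₀ _).comp x (zero_add i)) (zero_add i)
  rw [Ext.mk₀_comp_mk₀_assoc, Ext.mk₀_comp_mk₀_assoc]
  congr 2
  exact cokernel.π_desc _ _ _

/-- Vanishing of cohomology with supports up to `N` in terms of restriction. -/
theorem subsingleton_HZ_le_iff (N : ℕ) :
    (∀ i, i ≤ N → Subsingleton (LocCohZ.HZ F i h)) ↔
      (∀ i, i < N → Function.Bijective (CohTop.res F i h)) ∧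
        Function.Injective (CohTop.res F N h) := by
  constructor
  · intro hZ
    have hinj : ∀ i, i ≤ N → Function.Injective (CohTop.res F i h) := fun i hi =>
      (injective_iff_map_eq_zero _).2 fun y hy => by
        obtain ⟨x, rfl⟩ := exists_toHU_of_res_eq_zero h y hy
        rw [(hZ i hi).elim x 0, map_zero]
    exact ⟨fun i hi => ⟨hinj i hi.le, fun y =>
      exists_res_of_delta_eq_zero h y ((hZ (i + 1) hi).elim _ _)⟩, hinj N le_rfl⟩
  · intro hr i hi
    have hinj : ∀ k, k ≤ N → Function.Injective (CohTop.res F k h) := fun k hk =>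
      (lt_or_eq_of_le hk).elim (fun hk => (hr.1 k hk).1) (fun e => e ▸ hr.2)
    refine subsingleton_of_forall_eq 0 fun x => ?_
    have hx : LocCohZ.toHU F i h x = 0 := hinj i hi ((res_toHU h x).trans (map_zero _).symm)
    cases i with
    | zero => exact toHU_zero_injective h (hx.trans (map_zero _).symm)
    | succ k =>
      obtain ⟨y, rfl⟩ := exists_delta_of_toHU_eq_zero h x hx
      obtain ⟨z, rfl⟩ := (hr.1 k hi).2 y
      exact delta_res h z

end Groth.Agent.H30.LocZ.LES
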