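import Groth.Prelude.Def_LocCohZ
import Mathlib.Topology.Sheaves.MayerVietoris
import Mathlib.CategoryTheory.Sites.MayerVietorisSquare

/-!
# The Mayer-Vietoris sequence of the sheaves `ℤ_X/ℤ_W`
-/

set_option autoImplicit false

universe u

open CategoryTheory Limits Opposite TopologicalSpace Abelian

namespace Groth.Agent.H30.LocZ.MV

variable {X : TopCat.{u}} (U U' : Opens X)

/-- The inclusion `ℤ_W → ℤ_X`. -/
noncomputable abbrev iT (W : Opens X) :
    CohCx.freeSheaf (Opens.grothendieckTopology X) W ⟶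
      CohCx.freeSheaf (Opens.grothendieckTopology X) (⊤ : Opens X) :=
  CohCx.freeSheafMap (Opens.grothendieckTopology X) (homOfLE le_top)

lemma freeSheafMap_iT {W W' : Opens X} (h : W ≤ W') :
    CohCx.freeSheafMap (Opens.grothendieckTopology X) (homOfLE h) ≫ iT W' = iT W :=
  (CohFree.freeSheafMap_comp _ _ _).symm

/-- The projection `ℤ_X/ℤ_W → ℤ_X/ℤ_{W'}` for `W ≤ W'`. -/
noncomputable abbrev proj {W W' : Opens X} (h : W ≤ W') :
    LocCohZ.zq (le_top : W ≤ ⊤) ⟶ LocCohZ.zq (le_top : W' ≤ ⊤) :=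
  LocCohZ.zqMap (le_top : W' ≤ ⊤) (le_top : W ≤ ⊤) h le_rfl

lemma π_proj {W W' : Opens X} (h : W ≤ W') :
    cokernel.π (iT W) ≫ proj h = cokernel.π (iT W') :=
  (cokernel.π_desc _ _ _).trans ((congrArg (· ≫ cokernel.π (iT W'))
    (CohFree.freeSheafMap_id _ _)).trans (Category.id_comp _))

lemma mv_zero :
    biprod.lift (proj (inf_le_left : U ⊓ U' ≤ U)) (-proj (inf_le_right : U ⊓ U' ≤ U')) ≫
      biprod.desc (proj (le_sup_left : U ≤ U ⊔ U')) (proj (le_sup_right : U' ≤ U ⊔ U')) = 0 := by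
  rw [biprod.lift_desc, ← cancel_epi (cokernel.π (iT (U ⊓ U'))), Preadditive.comp_add, comp_zero,
    Preadditive.neg_comp, Preadditive.comp_neg, ← Category.assoc, ← Category.assoc, π_proj, π_proj,
    π_proj, π_proj, add_neg_cancel]

/-- `ℤ_X/ℤ_{U∩U'} → ℤ_X/ℤ_U ⊕ ℤ_X/ℤ_{U'} → ℤ_X/ℤ_{U∪U'}`. -/
noncomputable abbrev seq : ShortComplex (CohTop.Ab X) :=
  ShortComplex.mk _ _ (mv_zero U U')

lemma mono_iT (W : Opens X) : Mono (iT W) :=
  (LocCohZ.zqSeq_shortExact (le_top : W ≤ ⊤)).mono_f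

lemma eq_of_lift_comp {Q : CohTop.Ab X} (k : (seq U U').X₂ ⟶ Q) (hk : (seq U U').f ≫ k = 0) :
    cokernel.π (iT U') ≫ biprod.inr ≫ k = cokernel.π (iT U) ≫ biprod.inl ≫ k := by
  have h : proj (inf_le_left : U ⊓ U' ≤ U) ≫ biprod.inl ≫ k =
      proj (inf_le_right : U ⊓ U' ≤ U') ≫ biprod.inr ≫ k := by
    have h' : (proj (inf_le_left : U ⊓ U' ≤ U) ≫ biprod.inl +
        (-proj (inf_le_right : U ⊓ U' ≤ U')) ≫ biprod.inr) ≫ k = 0 := by
      rw [← biprod.lift_eq]
      exact hk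
    rw [Preadditive.add_comp, Preadditive.neg_comp, Preadditive.neg_comp, Category.assoc,
      Category.assoc, add_neg_eq_zero] at h'
    exact h'
  rw [← π_proj (inf_le_left : U ⊓ U' ≤ U), ← π_proj (inf_le_right : U ⊓ U' ≤ U')]
  simpa only [Category.assoc] using (congrArg (cokernel.π _ ≫ ·) h).symm

lemma iT_sup_comp {Q : CohTop.Ab X} (k : (seq U U').X₂ ⟶ Q) (hk : (seq U U').f ≫ k = 0) :
    iT (U ⊔ U') ≫ cokernel.π (iT U) ≫ biprod.inl ≫ k = 0 := by
  have hsq := (Opens.mayerVietorisSquare U U').shortComplex_shortExact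
  have hm := eq_of_lift_comp U U' k hk
  have : Epi ((Opens.mayerVietorisSquare U U').shortComplex.g) := hsq.epi_g
  refine (cancel_epi ((Opens.mayerVietorisSquare U U').shortComplex.g)).1 ?_
  refine Eq.trans ?_ comp_zero.symm
  refine (biprod.hom_ext' _ _ ?_ ?_)
  · refine (biprod.inl_desc_assoc _ _ _).trans (Eq.trans ?_ comp_zero.symm)
    refine (Category.assoc _ _ _).symm.trans ?_
    erw [freeSheafMap_iT (le_sup_left : U ≤ U ⊔ U'), cokernel.condition_assoc, zero_comp]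
  · refine (biprod.inr_desc_assoc _ _ _).trans (Eq.trans ?_ comp_zero.symm)
    refine (Category.assoc _ _ _).symm.trans ?_
    rw [← hm]
    erw [freeSheafMap_iT (le_sup_right : U' ≤ U ⊔ U'), cokernel.condition_assoc, zero_comp]

lemma seq_mono_f : Mono (seq U U').f := by
  have hsq := (Opens.mayerVietorisSquare U U').shortComplex_shortExact
  refine Preadditive.mono_of_cancel_zero _ fun {P} x hx => ?_
  obtain ⟨P', π, hπ, y, hy⟩ := surjective_up_to_refinements_of_epi (cokernel.π (iT (U ⊓ U'))) x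
  have hU : y ≫ cokernel.π (iT U) = 0 := by
    rw [← π_proj (inf_le_left : U ⊓ U' ≤ U), ← Category.assoc, ← hy, Category.assoc]
    exact (congrArg (π ≫ ·) ((congrArg (x ≫ ·) (biprod.lift_fst _ _).symm).trans
      ((Category.assoc _ _ _).symm.trans ((congrArg (· ≫ biprod.fst) hx).trans zero_comp)))).trans
        comp_zero
  have hU' : y ≫ cokernel.π (iT U') = 0 := by
    rw [← π_proj (inf_le_right : U ⊓ U' ≤ U'), ← Category.assoc, ← hy, Category.assoc]
    have h2 : x ≫ (-proj (inf_le_right : U ⊓ U' ≤ U')) = 0 :=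
      (congrArg (x ≫ ·) (biprod.lift_snd _ _).symm).trans
        ((Category.assoc _ _ _).symm.trans ((congrArg (· ≫ biprod.snd) hx).trans zero_comp))
    rw [Preadditive.comp_neg, neg_eq_zero] at h2
    exact (congrArg (π ≫ ·) h2).trans comp_zero
  have := hπ
  obtain ⟨P₁, π₁, hπ₁, a, ha⟩ :=
    ((LocCohZ.zqSeq_shortExact (le_top : U ≤ ⊤)).exact).exact_up_to_refinements y hU
  obtain ⟨P₂, π₂, hπ₂, b, hb⟩ :=
    ((LocCohZ.zqSeq_shortExact (le_top : U' ≤ ⊤)).exact).exact_up_to_refinements (π₁ ≫ y)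
      ((Category.assoc _ _ _).trans ((congrArg (π₁ ≫ ·) hU').trans comp_zero))
  have := hπ₁
  have := hπ₂
  obtain ⟨a, ha⟩ : ∃ a' : P₁ ⟶ CohCx.freeSheaf (Opens.grothendieckTopology X) U,
      π₁ ≫ y = a' ≫ iT U := ⟨a, ha⟩
  obtain ⟨b, hb⟩ : ∃ b' : P₂ ⟶ CohCx.freeSheaf (Opens.grothendieckTopology X) U',
      π₂ ≫ π₁ ≫ y = b' ≫ iT U' := ⟨b, hb⟩
  have := mono_iT (U ⊔ U')
  have hz : biprod.lift (π₂ ≫ a) (-b) ≫ (Opens.mayerVietorisSquare U U').shortComplex.g = 0 := by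
    have key : (π₂ ≫ a) ≫ CohCx.freeSheafMap (Opens.grothendieckTopology X)
          (homOfLE (le_sup_left : U ≤ U ⊔ U')) + (-b) ≫ CohCx.freeSheafMap
            (Opens.grothendieckTopology X) (homOfLE (le_sup_right : U' ≤ U ⊔ U')) = 0 := by
      apply (cancel_mono (iT (U ⊔ U'))).1
      rw [Preadditive.add_comp, Category.assoc _ _ (iT _), Category.assoc (-b), freeSheafMap_iT,
        freeSheafMap_iT, zero_comp, Preadditive.neg_comp, add_neg_eq_zero, Category.assoc, ← ha, ← hb]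
    exact biprod.lift_desc.trans key
  obtain ⟨P₃, π₃, hπ₃, c, hc⟩ := hsq.exact.exact_up_to_refinements _ hz
  have := hπ₃
  have hc' : π₃ ≫ π₂ ≫ a =
      c ≫ CohCx.freeSheafMap (Opens.grothendieckTopology X) (homOfLE inf_le_left) := by
    have := congrArg (· ≫ biprod.fst) hc
    refine ((congrArg _ (biprod.lift_fst _ _).symm).trans (Category.assoc _ _ _).symm).trans
      (this.trans ((Category.assoc _ _ _).trans (congrArg _ (biprod.lift_fst _ _))))
  rw [← cancel_epi π, comp_zero, hy, ← cancel_epi π₁, comp_zero, ← Category.assoc, ha,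
    ← cancel_epi π₂, comp_zero, ← cancel_epi π₃, comp_zero]
  have e : π₃ ≫ π₂ ≫ a ≫ iT U = c ≫ iT (U ⊓ U') := by
    rw [← Category.assoc π₂, ← Category.assoc π₃, hc']
    exact (Category.assoc _ _ _).trans (congrArg _ (freeSheafMap_iT _))
  refine (congrArg (π₃ ≫ ·) (Category.assoc _ _ _).symm).trans ?_
  refine (Category.assoc _ _ _).symm.trans ((congrArg (· ≫ cokernel.π _) e).trans ?_)
  exact (Category.assoc _ _ _).trans ((congrArg _ (cokernel.condition _)).trans comp_zero)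

theorem seq_shortExact : (seq U U').ShortExact := by
  have hsq := (Opens.mayerVietorisSquare U U').shortComplex_shortExact
  refine { exact := ?_, mono_f := seq_mono_f U U', epi_g := ?_ }
  · refine ShortComplex.exact_of_g_is_cokernel _ (CokernelCofork.IsColimit.ofπ _ _
      (fun k hk => cokernel.desc (iT (U ⊔ U')) (cokernel.π (iT U) ≫ biprod.inl ≫ k)
        (iT_sup_comp U U' k hk))
      (fun k hk => ?_) (fun k hk m hm => ?_))
    · apply biprod.hom_ext'
      · rw [biprod.inl_desc_assoc, ← cancel_epi (cokernel.π (iT U)), ← Category.assoc, π_proj,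
          cokernel.π_desc]
      · rw [biprod.inr_desc_assoc, ← cancel_epi (cokernel.π (iT U')), ← Category.assoc, π_proj,
          cokernel.π_desc]
        exact (eq_of_lift_comp U U' k hk).symm
    · rw [← cancel_epi (cokernel.π (iT (U ⊔ U'))), cokernel.π_desc, ← hm, biprod.inl_desc_assoc,
        ← Category.assoc, π_proj]
  · have : Epi (cokernel.π (iT U) ≫ proj (le_sup_left : U ≤ U ⊔ U')) := by
      rw [π_proj]; infer_instance
    have := epi_of_epi (cokernel.π (iT U)) (proj (le_sup_left : U ≤ U ⊔ U'))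
    have : Epi (biprod.inl ≫ (seq U U').g) := by
      simp only [biprod.inl_desc]; infer_instance
    exact epi_of_epi biprod.inl _

end Groth.Agent.H30.LocZ.MV

namespace Groth.Agent.H30.LocZ.MV

variable {X : TopCat.{u}} (U U' : Opens X) (F : CohTop.Ab X)

lemma f_comp (i : ℕ) (z : Ext (seq U U').X₂ F i) :
    (Ext.mk₀ (seq U U').f).comp z (zero_add i) =
      (Ext.mk₀ (proj (inf_le_left : U ⊓ U' ≤ U))).comp
          ((Ext.mk₀ biprod.inl).comp z (zero_add i)) (zero_add i) -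
        (Ext.mk₀ (proj (inf_le_right : U ⊓ U' ≤ U'))).comp
          ((Ext.mk₀ biprod.inr).comp z (zero_add i)) (zero_add i) := by
  rw [Ext.mk₀_comp_mk₀_assoc, Ext.mk₀_comp_mk₀_assoc, sub_eq_add_neg, ← Ext.neg_comp,
    ← Ext.add_comp, ← Ext.mk₀_neg, ← Ext.mk₀_add]
  congr 2
  show biprod.lift _ _ = _
  rw [biprod.lift_eq, Preadditive.neg_comp]

lemma inl_g_comp (i : ℕ) (x : Ext (seq U U').X₃ F i) :
    (Ext.mk₀ biprod.inl).comp ((Ext.mk₀ (seq U U').g).comp x (zero_add i)) (zero_add i) =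
      (Ext.mk₀ (proj (le_sup_left : U ≤ U ⊔ U'))).comp x (zero_add i) := by
  rw [Ext.mk₀_comp_mk₀_assoc]
  congr 2
  exact biprod.inl_desc _ _

lemma inr_g_comp (i : ℕ) (x : Ext (seq U U').X₃ F i) :
    (Ext.mk₀ biprod.inr).comp ((Ext.mk₀ (seq U U').g).comp x (zero_add i)) (zero_add i) =
      (Ext.mk₀ (proj (le_sup_right : U' ≤ U ⊔ U'))).comp x (zero_add i) := by
  rw [Ext.mk₀_comp_mk₀_assoc]
  congr 2
  exact biprod.inr_desc _ _

lemma g_comp_eq_zero_iff (i : ℕ) (x : Ext (seq U U').X₃ F i) :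
    (Ext.mk₀ (seq U U').g).comp x (zero_add i) = 0 ↔
      (Ext.mk₀ (proj (le_sup_left : U ≤ U ⊔ U'))).comp x (zero_add i) = 0 ∧
        (Ext.mk₀ (proj (le_sup_right : U' ≤ U ⊔ U'))).comp x (zero_add i) = 0 := by
  constructor
  · intro h
    rw [← inl_g_comp, ← inr_g_comp, h, Ext.comp_zero, Ext.comp_zero]
    exact ⟨rfl, rfl⟩
  · intro h
    apply Ext.biprod_ext
    · rw [inl_g_comp, h.1, Ext.comp_zero]
    · rw [inr_g_comp, h.2, Ext.comp_zero]

/-- The Mayer-Vietoris connecting map. -/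
noncomputable def mvDelta (i : ℕ) :
    LocCohZ.HZc F i (U ⊓ U') →+ LocCohZ.HZc F (i + 1) (U ⊔ U') :=
  (seq_shortExact U U').extClass.precomp F (by omega)

lemma mvDelta_apply (i : ℕ) (w : Ext (seq U U').X₁ F i) :
    mvDelta U U' F i w = (seq_shortExact U U').extClass.comp w (by omega : 1 + i = i + 1) := rfl

theorem injective_zero :
    Function.Injective (fun x : LocCohZ.HZc F 0 (U ⊔ U') =>
      (LocCohZ.resZ F 0 (le_top : U ⊔ U' ≤ ⊤) (le_top : U ≤ ⊤) le_sup_left le_rfl x,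
       LocCohZ.resZ F 0 (le_top : U ⊔ U' ≤ ⊤) (le_top : U' ≤ ⊤) le_sup_right le_rfl x)) := by
  intro a b hab
  obtain ⟨h1, h2⟩ := Prod.ext_iff.1 hab
  have key : ∀ z : Ext (seq U U').X₃ F 0, (Ext.mk₀ (seq U U').g).comp z (zero_add 0) = 0 → z = 0 := by
    intro z hz
    obtain ⟨z, rfl⟩ := (Ext.mk₀_bijective _ _).2 z
    rw [Ext.mk₀_comp_mk₀] at hz
    have := (seq_shortExact U U').epi_g
    rw [(cancel_epi (seq U U').g).1 (((Ext.mk₀_bijective _ _).1 (hz.trans (Ext.mk₀_zero _ _).symm)).trans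
      comp_zero.symm), Ext.mk₀_zero]
  refine sub_eq_zero.1 (key (a - b) ((g_comp_eq_zero_iff U U' F 0 _).2
    ⟨((map_sub (LocCohZ.resZ F 0 (le_top : U ⊔ U' ≤ ⊤) (le_top : U ≤ ⊤) le_sup_left le_rfl) a b).trans
        (sub_eq_zero.2 h1)),
     ((map_sub (LocCohZ.resZ F 0 (le_top : U ⊔ U' ≤ ⊤) (le_top : U' ≤ ⊤) le_sup_right le_rfl) a b).trans
        (sub_eq_zero.2 h2))⟩))

theorem exact₂ (i : ℕ) (y : LocCohZ.HZc F i U × LocCohZ.HZc F i U') :
    LocCohZ.resZ F i (le_top : U ≤ ⊤) (le_top : U ⊓ U' ≤ ⊤) inf_le_left le_rfl y.1 -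
        LocCohZ.resZ F i (le_top : U' ≤ ⊤) (le_top : U ⊓ U' ≤ ⊤) inf_le_right le_rfl y.2 = 0 ↔
      ∃ x : LocCohZ.HZc F i (U ⊔ U'),
        LocCohZ.resZ F i (le_top : U ⊔ U' ≤ ⊤) (le_top : U ≤ ⊤) le_sup_left le_rfl x = y.1 ∧
        LocCohZ.resZ F i (le_top : U ⊔ U' ≤ ⊤) (le_top : U' ≤ ⊤) le_sup_right le_rfl x = y.2 := by
  let z : Ext (seq U U').X₂ F i :=
    (Ext.mk₀ biprod.fst).comp y.1 (zero_add i) + (Ext.mk₀ biprod.snd).comp y.2 (zero_add i)
  have h₁ : (Ext.mk₀ biprod.inl).comp z (zero_add i) = y.1 := by simp [z]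
  have h₂ : (Ext.mk₀ biprod.inr).comp z (zero_add i) = y.2 := by simp [z]
  constructor
  · intro h
    obtain ⟨x, hx⟩ := Ext.contravariant_sequence_exact₂ (seq_shortExact U U') F z
      ((f_comp U U' F i z).trans (by rw [h₁, h₂]; exact h))
    refine ⟨x, ?_, ?_⟩
    · rw [← h₁, ← hx]; exact (inl_g_comp U U' F i x).symm
    · rw [← h₂, ← hx]; exact (inr_g_comp U U' F i x).symm
  · rintro ⟨x, hx₁, hx₂⟩
    have := f_comp U U' F i ((Ext.mk₀ (seq U U').g).comp x (zero_add i))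
    rw [inl_g_comp, inr_g_comp, Ext.mk₀_comp_mk₀_assoc (seq U U').f, (seq U U').zero, Ext.mk₀_zero,
      Ext.zero_comp] at this
    rw [← hx₁, ← hx₂]
    exact this.symm

theorem exact₁ (i : ℕ) (w : LocCohZ.HZc F i (U ⊓ U')) :
    mvDelta U U' F i w = 0 ↔ ∃ y : LocCohZ.HZc F i U × LocCohZ.HZc F i U',
      LocCohZ.resZ F i (le_top : U ≤ ⊤) (le_top : U ⊓ U' ≤ ⊤) inf_le_left le_rfl y.1 -
        LocCohZ.resZ F i (le_top : U' ≤ ⊤) (le_top : U ⊓ U' ≤ ⊤) inf_le_right le_rfl y.2 = w := by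
  constructor
  · intro h
    obtain ⟨z, hz⟩ := Ext.contravariant_sequence_exact₁ (seq_shortExact U U') F w
      (by omega : 1 + i = i + 1) h
    exact ⟨((Ext.mk₀ biprod.inl).comp z (zero_add i), (Ext.mk₀ biprod.inr).comp z (zero_add i)),
      (f_comp U U' F i z).symm.trans hz⟩
  · rintro ⟨y, rfl⟩
    let z : Ext (seq U U').X₂ F i :=
      (Ext.mk₀ biprod.fst).comp y.1 (zero_add i) + (Ext.mk₀ biprod.snd).comp y.2 (zero_add i)
    have h₁ : (Ext.mk₀ biprod.inl).comp z (zero_add i) = y.1 := by simp [z]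
    have h₂ : (Ext.mk₀ biprod.inr).comp z (zero_add i) = y.2 := by simp [z]
    have key : ∀ t : Ext (seq U U').X₂ F i, (seq_shortExact U U').extClass.comp
        ((Ext.mk₀ (seq U U').f).comp t (zero_add i)) (by omega : 1 + i = i + 1) = 0 := fun t => by
      rw [← Ext.comp_assoc (a₁₂ := 1) (a₂₃ := i) _ _ _ (add_zero 1) (zero_add i) (by omega),
        (seq_shortExact U U').extClass_comp, Ext.zero_comp]
    have := key z
    rw [f_comp, h₁, h₂] at this
    exact this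

theorem exact₃ (i : ℕ) (x : LocCohZ.HZc F (i + 1) (U ⊔ U')) :
    (LocCohZ.resZ F (i + 1) (le_top : U ⊔ U' ≤ ⊤) (le_top : U ≤ ⊤) le_sup_left le_rfl x = 0 ∧
      LocCohZ.resZ F (i + 1) (le_top : U ⊔ U' ≤ ⊤) (le_top : U' ≤ ⊤) le_sup_right le_rfl x = 0) ↔
      ∃ w : LocCohZ.HZc F i (U ⊓ U'), mvDelta U U' F i w = x := by
  refine (g_comp_eq_zero_iff U U' F (i + 1) x).symm.trans ⟨fun h => ?_, ?_⟩
  · exact Ext.contravariant_sequence_exact₃ (seq_shortExact U U') F x h (by omega : 1 + i = i + 1)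
  · rintro ⟨w, rfl⟩
    have key : ∀ t : Ext (seq U U').X₁ F i, (Ext.mk₀ (seq U U').g).comp
        ((seq_shortExact U U').extClass.comp t (by omega : 1 + i = i + 1)) (zero_add (i + 1)) = 0 :=
      fun t => by
        rw [← Ext.comp_assoc (Ext.mk₀ (seq U U').g) (seq_shortExact U U').extClass t (zero_add 1)
          (by omega : 1 + i = i + 1) (by omega), (seq_shortExact U U').comp_extClass, Ext.zero_comp]
    exact key w

end Groth.Agent.H30.LocZ.MV
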