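import Groth.Agent.H30.DerivedSES
import Groth.Agent.H30.DerivedNat
import Groth.Agent.H30.RpushRestr
import Groth.Agent.Lib.ZarCoh.Compare
import Groth.Agent.Lib.LocCohSS.Basic

/-!
# `ℋ^1_Z = coker (F → j_* j⁻¹ F)` and `ℋ^{i+1}_Z = R^i j_* ∘ j⁻¹`
-/

set_option autoImplicit false
set_option linter.style.haveILetI false

universe u

open CategoryTheory Limits Opposite TopologicalSpace
open Groth.Agent.Lib.LocCohSS.Basic

namespace Groth.Agent.H30.LocZ.OpenSeq

variable {X : TopCat.{u}} (U : Opens X)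

/-- `F ↦ j_* j⁻¹ F`. -/
noncomputable abbrev tFun : CohTop.Ab X ⥤ CohTop.Ab X :=
  CohTop.pull (CohCx.incl U) ⋙ CohTop.push (CohCx.incl U)

/-- The unit `F → j_* j⁻¹ F`. -/
noncomputable abbrev η : 𝟭 (CohTop.Ab X) ⟶ tFun U :=
  (TopCat.Sheaf.pullbackPushforwardAdjunction AddCommGrpCat.{u} (CohCx.incl U)).unit

/-- The inclusion `Γ_Z F → F`. -/
noncomputable def ι : LocCohZ.sectSuppF U ⟶ 𝟭 (CohTop.Ab X) where
  app _ := kernel.ι _
  naturality _ _ _ := kernel.lift_ι _ _ _

lemma ι_η (F : CohTop.Ab X) : (ι U).app F ≫ (η U).app F = 0 := kernel.condition _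

theorem epi_η (F : CohTop.Ab X) [TopCat.Sheaf.IsFlasque F] : Epi ((η U).app F) := by
  let adj₁ := TopCat.Sheaf.pullbackPushforwardAdjunction AddCommGrpCat.{u} (CohCx.incl U)
  have e : adj₁.unit.app F ≫
      (CohTop.push (CohCx.incl U)).map ((adj₁.leftAdjointUniq (restrAdj U)).hom.app F) =
        (restrAdj U).unit.app F :=
    Adjunction.unit_leftAdjointUniq_hom_app _ _ _
  haveI : Epi ((restrAdj U).unit.app F) := by
    refine (TopCat.Sheaf.isLocallySurjective_iff_epi _).1
      ((TopCat.Presheaf.isLocallySurjective_iff _).2 fun V s x hx => ?_)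
    obtain ⟨t, ht⟩ := (AddCommGrpCat.epi_iff_surjective _).1 (TopCat.Presheaf.IsFlasque.epi
      (F := F.obj) (U.isOpenEmbedding.isOpenMap.adjunction.counit.app V).op) s
    refine ⟨V, le_rfl, ⟨t, ?_⟩, hx⟩
    exact ht.trans (ConcreteCategory.congr_hom
      (((CohTop.push (CohCx.incl U)).obj ((CohTop.restrFunctor U).obj F)).obj.map_id (op V)) s).symm
  let i := (CohTop.push (CohCx.incl U)).mapIso ((adj₁.leftAdjointUniq (restrAdj U)).app F)
  have e' : adj₁.unit.app F ≫ i.hom = (restrAdj U).unit.app F := e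
  rw [(Iso.eq_comp_inv i).2 e']
  exact @epi_comp _ _ _ _ _ _ (by assumption) _ inferInstance

theorem seq_shortExact (I : CohTop.Ab X) (hI : Injective I) :
    (ShortComplex.mk ((ι U).app I) ((η U).app I) (ι_η U I)).ShortExact :=
  haveI : TopCat.Sheaf.IsFlasque I := Groth.Agent.Lib.ZarCoh.Basic.isFlasque_of_injective I
  { exact := ShortComplex.exact_of_f_is_kernel _ (kernelIsKernel _)
    mono_f := equalizer.ι_mono
    epi_g := epi_η U I }

instance pull_preservesInjectiveObjects : (CohTop.pull (CohCx.incl U)).PreservesInjectiveObjects where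
  injective_obj {I} hI :=
    Injective.of_iso ((((TopCat.Sheaf.pullbackPushforwardAdjunction AddCommGrpCat.{u}
      (CohCx.incl U)).leftAdjointUniq (restrAdj U)).app I).symm)
      ((RpushRestr.restr_preservesInjectiveObjects U).injective_obj hI)

instance pull_incl_additive : (CohTop.pull (CohCx.incl U)).Additive :=
  Groth.Agent.Lib.ZarCoh.Compare.pull_additive _

instance push_incl_additive : (CohTop.push (CohCx.incl U)).Additive where

instance tFun_additive : (tFun U).Additive :=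
  inferInstanceAs (CohTop.pull (CohCx.incl U) ⋙ CohTop.push (CohCx.incl U)).Additive

instance pull_incl_preservesFiniteLimits : PreservesFiniteLimits (CohTop.pull (CohCx.incl U)) :=
  Groth.Agent.Lib.ZarCoh.Compare.pull_preservesFiniteLimits _

instance pull_incl_preservesFiniteColimits : PreservesFiniteColimits (CohTop.pull (CohCx.incl U)) :=
  Groth.Agent.Lib.ZarCoh.Compare.pull_preservesFiniteColimits _

instance tFun_preservesFiniteLimits : PreservesFiniteLimits (tFun U) :=
  haveI : PreservesLimitsOfSize.{0, 0} (CohTop.push (CohCx.incl U)) :=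
    (TopCat.Sheaf.pullbackPushforwardAdjunction AddCommGrpCat.{u}
      (CohCx.incl U)).rightAdjoint_preservesLimits
  haveI : PreservesFiniteLimits (CohTop.push (CohCx.incl U)) :=
    PreservesLimitsOfSize.preservesFiniteLimits _
  comp_preservesFiniteLimits _ _

lemma isZero_id (n : ℕ) (Z : CohTop.Ab X) :
    IsZero (((𝟭 (CohTop.Ab X)).rightDerived (n + 1)).obj Z) :=
  Groth.Agent.Lib.BigEt.Derived.isZero_of_exact _ (n + 1) n.succ_pos Z

/-- `ℋ^1_Z ≅ coker (𝟭 → j_* j⁻¹)`. -/
noncomputable def oneIso : LocCohZ.HZsh U 1 ≅ cokernel (η U) :=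
  (DerivedSES.cokernelIso (ι U) (η U) (ι_η U) (seq_shortExact U) (isZero_id 0)).symm

/-- `ℋ^{i+1}_Z ≅ R^i j_* ∘ j⁻¹` for `i ≥ 1`. -/
noncomputable def succIso (i : ℕ) :
    LocCohZ.HZsh U (i + 2) ≅ CohTop.pull (CohCx.incl U) ⋙ CohTop.Rpush (CohCx.incl U) (i + 1) :=
  (DerivedSES.δIso (ι U) (η U) (ι_η U) (seq_shortExact U) (i + 1) (isZero_id i)
    (isZero_id (i + 1))).symm ≪≫
      DerivedNat.precompNatIso (CohTop.pull (CohCx.incl U)) (CohTop.push (CohCx.incl U)) (i + 1)

end Groth.Agent.H30.LocZ.OpenSeq
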