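import Groth.Agent.H30.LocZ.SheafifyLC
import Groth.Agent.H30.LocZ.LES
import Groth.Agent.Lib.SiteCmp29.GammaZ
import Groth.Agent.Lib.CohDelta.AbR
import Groth.Agent.S0030

/-!
# Quasi-coherence of `ℋ^q_Z` for `Z` locally closed in a scheme
-/

set_option autoImplicit false
set_option linter.style.haveILetI false

universe u

open CategoryTheory Limits Opposite TopologicalSpace AlgebraicGeometry Abelian
open Groth.Agent.Lib.ZarCoh.Basic

namespace Groth.Agent.H30.LocZ.QCohLC

section Top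

variable {X : TopCat.{u}} {W V : Opens X}

lemma res_zero_surjective (G : CohTop.Ab X) [TopCat.Sheaf.IsFlasque G] (h : W ≤ V) :
    Function.Surjective (CohTop.res G 0 h) := by
  intro y
  obtain ⟨b, rfl⟩ := (Ext.mk₀_bijective _ _).2 y
  obtain ⟨e, he⟩ := flasque_surjective G h (homEquiv W G b)
  refine ⟨Ext.mk₀ ((homEquiv V G).symm e), ?_⟩
  change (Ext.mk₀ _).comp (Ext.mk₀ _) (zero_add 0) = _
  rw [Ext.mk₀_comp_mk₀]
  refine congrArg Ext.mk₀ ((homEquiv W G).injective ?_)
  refine Eq.trans ?_ he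
  exact (Lib.SiteCoh.Basic.homEquiv'_naturality_left (homOfLE h) G _).trans
    (congrArg _ ((homEquiv V G).apply_symm_apply e))

theorem subsingleton_HZ_flasque (G : CohTop.Ab X) [TopCat.Sheaf.IsFlasque G] (h : W ≤ V) (q : ℕ) :
    Subsingleton (LocCohZ.HZ G (q + 1) h) := by
  haveI : Subsingleton (CohTop.HU G (q + 1) V) := HU_flasque G V q
  refine subsingleton_of_forall_eq 0 fun x => ?_
  obtain ⟨y, rfl⟩ := LES.exists_delta_of_toHU_eq_zero h x (Subsingleton.elim _ _)
  cases q with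
  | zero =>
    obtain ⟨z, rfl⟩ := res_zero_surjective G h y
    exact LES.delta_res h z
  | succ k =>
    haveI : Subsingleton (CohTop.HU G (k + 1) W) := HU_flasque G W k
    rw [Subsingleton.elim y 0, map_zero]

theorem isZero_HZshLC_flasque (h : W ≤ V) (G : CohTop.Ab X) [TopCat.Sheaf.IsFlasque G] (q : ℕ) :
    IsZero ((SuppFam.HZshLC h (q + 1)).obj G) := by
  obtain ⟨e⟩ := SheafifyLC.nonempty_iso h G (q + 1)
  refine IsZero.of_iso ((presheafToSheaf _ _).map_isZero (Functor.isZero _ fun V' => ?_)) e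
  haveI : Subsingleton ((SuppFam.HZpre G (q + 1) h).obj V') :=
    subsingleton_HZ_flasque G (inf_le_inf_right V'.unop h) q
  exact AddCommGrpCat.isZero_of_subsingleton _

end Top

variable {Y : Scheme.{u}} {V₂ V₁ : Y.Opens} (h : V₂ ≤ V₁)

local notation "j₁" => Scheme.Opens.ι V₁
local notation "j₂" => Scheme.Opens.ι V₂

open Groth.Agent.Lib.SiteCmp29

theorem gammaZ_preservesFiniteLimits {U Y : Scheme.{u}} (j : U ⟶ Y) [IsOpenImmersion j] :
    PreservesFiniteLimits (DCoh.gammaZ j) := by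
  have h := (Functor.preservesFiniteLimits_tfae (DCoh.gammaZ j)).out 0 3
  refine h.1 fun S hS => ?_
  haveI := hS.mono_f
  have hm : Mono ((DCoh.gammaZ j).map S.f) := by
    refine Preadditive.mono_of_cancel_zero _ fun {A} g hg => ?_
    haveI : Mono ((GammaZ.ι j).app S.X₁) := equalizer.ι_mono
    refine (cancel_mono ((GammaZ.ι j).app S.X₁)).1 ((cancel_mono S.f).1 ?_)
    refine (Category.assoc _ _ _).trans ?_
    refine (congrArg (g ≫ ·) ((GammaZ.ι j).naturality S.f).symm).trans ?_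
    refine (Category.assoc _ _ _).symm.trans ?_
    exact (congrArg (· ≫ _) hg).trans (zero_comp.trans
      ((congrArg (· ≫ S.f) zero_comp).trans zero_comp).symm)
  haveI : Mono ((GammaZ.tFun j).map S.f) := inferInstance
  haveI : Mono (S.map (DCoh.gammaZ j)).f := hm
  refine ⟨ShortComplex.exact_of_f_is_kernel _ (KernelFork.IsLimit.ofι' _ _ fun {A} x hx => ?_), hm⟩
  have h1 : (x ≫ (GammaZ.ι j).app S.X₂) ≫ S.g = 0 := by
    refine (Category.assoc _ _ _).trans ((congrArg (x ≫ ·) ((GammaZ.ι j).naturality S.g).symm).trans ?_)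
    refine (Category.assoc _ _ _).symm.trans ?_
    exact (congrArg (· ≫ _) hx).trans zero_comp
  refine ⟨kernel.lift _ (hS.exact.lift _ h1) ?_, ?_⟩
  · rw [← cancel_mono ((GammaZ.tFun j).map S.f), zero_comp, Category.assoc]
    refine (congrArg (_ ≫ ·) ((GammaZ.η j).naturality S.f).symm).trans ?_
    refine (Category.assoc _ _ _).symm.trans ?_
    refine (congrArg (· ≫ (GammaZ.η j).app S.X₂) (hS.exact.lift_f _ h1)).trans ?_
    exact (Category.assoc _ _ _).trans ((congrArg (x ≫ ·) (GammaZ.ι_η j S.X₂)).trans comp_zero)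
  · apply equalizer.hom_ext
    refine (Category.assoc _ _ _).trans ((congrArg (_ ≫ ·) (kernel.lift_ι _ _ _)).trans ?_)
    refine (Category.assoc _ _ _).symm.trans ((congrArg (· ≫ S.f) (kernel.lift_ι _ _ _)).trans ?_)
    exact hS.exact.lift_f _ h1

/-- `F ↦ j₁_* Γ_Z(F|V₁)` on modules. -/
noncomputable abbrev T (V₂ V₁ : Y.Opens) : Y.Modules ⥤ Y.Modules :=
  GammaZ.tFun (Scheme.Opens.ι V₁) ⋙ DCoh.gammaZ (Scheme.Opens.ι V₂)

instance : PreservesFiniteLimits (T V₂ V₁) := by
  haveI := gammaZ_preservesFiniteLimits (Scheme.Opens.ι V₂)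
  exact comp_preservesFiniteLimits _ _

lemma injective_tFun (I : Y.Modules) [Injective I] : Injective ((GammaZ.tFun j₁).obj I) := by
  haveI : Injective ((Scheme.Modules.restrictFunctor j₁).obj I) :=
    Functor.injective_obj_of_injective _ ‹_›
  haveI : (Scheme.Modules.restrictFunctor j₁).PreservesMonomorphisms := inferInstance
  exact (Scheme.Modules.restrictAdjunction j₁).map_injective _ inferInstance

/-- The inclusion of `T`. -/
noncomputable abbrev f : T V₂ V₁ ⟶ GammaZ.tFun j₁ :=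
  Functor.whiskerLeft (GammaZ.tFun j₁) (GammaZ.ι j₂)

/-- The restriction. -/
noncomputable abbrev g : GammaZ.tFun j₁ ⟶ GammaZ.tFun (Scheme.Opens.ι V₁) ⋙ GammaZ.tFun j₂ :=
  Functor.whiskerLeft (GammaZ.tFun j₁) (GammaZ.η j₂)

lemma seq_shortExact (I : Y.Modules) (hI : Injective I) :
    (ShortComplex.mk ((f (V₂ := V₂) (V₁ := V₁)).app I) ((g (V₂ := V₂) (V₁ := V₁)).app I)
      (GammaZ.ι_η j₂ _)).ShortExact :=
  haveI := hI
  GammaZ.seq_shortExact j₂ _ (injective_tFun I)

section QCoh

include h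

/-- `j₂_* j₂^* (j₁_* j₁^*) = j₂_* j₂^*`. -/
theorem nonempty_tFun_comp_iso :
    Nonempty (GammaZ.tFun j₁ ⋙ GammaZ.tFun j₂ ≅ GammaZ.tFun j₂) := by
  let α : Scheme.Modules.restrictFunctor j₂ ⟶
      GammaZ.tFun j₁ ⋙ Scheme.Modules.restrictFunctor j₂ :=
    Functor.whiskerRight (GammaZ.η j₁) (Scheme.Modules.restrictFunctor j₂)
  haveI : ∀ M, IsIso (α.app M) := fun M => by
    haveI : IsIso ((Scheme.Modules.toPresheaf _).map (α.app M)) := by
      haveI : ∀ U, IsIso (((Scheme.Modules.toPresheaf _).map (α.app M)).app U) := fun U => by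
        change IsIso (((Scheme.Modules.restrictAdjunction j₁).unit.app M).app (j₂ ''ᵁ U.unop))
        rw [Scheme.Modules.restrictAdjunction_unit_app_app]
        have e : j₁ ''ᵁ j₁ ⁻¹ᵁ (j₂ ''ᵁ U.unop) = j₂ ''ᵁ U.unop := by
          refine le_antisymm (Scheme.Hom.image_preimage_le j₁ _) ?_
          intro x hx
          obtain ⟨z, hz, rfl⟩ := hx
          exact ⟨⟨z.1, h z.2⟩, ⟨z, hz, rfl⟩, rfl⟩
        rw [show homOfLE (Scheme.Hom.image_preimage_le j₁ (j₂ ''ᵁ U.unop)) = eqToHom e from Subsingleton.elim _ _]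
        exact (eqToHom_op e) ▸ Functor.map_isIso M.presheaf (eqToHom _)
      exact NatIso.isIso_of_isIso_app _
    exact isIso_of_reflects_iso _ (Scheme.Modules.toPresheaf _)
  haveI := NatIso.isIso_of_isIso_app α
  exact ⟨(Functor.associator _ _ _).symm ≪≫
    Functor.isoWhiskerRight (asIso α).symm (Scheme.Modules.pushforward j₂)⟩

omit h in
theorem isQCoh_rightDerived_tFun {W : Y.Opens} [QuasiCompact W.ι] (F : Y.Modules)
    [F.IsQuasicoherent] (q : ℕ) : (((GammaZ.tFun W.ι).rightDerived q).obj F).IsQuasicoherent := by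
  haveI hR : ((Scheme.Modules.restrictFunctor W.ι).obj F).IsQuasicoherent := inferInstance
  haveI : Coh.IsQCoh ((Scheme.Modules.restrictFunctor W.ι).obj F) := hR
  exact ObjectProperty.prop_of_iso (SheafOfModules.isQuasicoherent (R := Y.ringCatSheaf))
    ((H30.DerivedNat.precompNatIso (Scheme.Modules.restrictFunctor W.ι)
      (Scheme.Modules.pushforward W.ι) q).app F).symm
    (Groth.Agent.S0030.result W.ι ((Scheme.Modules.restrictFunctor W.ι).obj F) q)

omit h in
theorem isQCoh_homology₁ {S : ShortComplex (CochainComplex Y.Modules ℕ)} (hS : S.ShortExact)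
    (h₂ : ∀ n, (S.X₂.homology n).IsQuasicoherent) (h₃ : ∀ n, (S.X₃.homology n).IsQuasicoherent)
    (q : ℕ) : (S.X₁.homology q).IsQuasicoherent := by
  let Q := SheafOfModules.isQuasicoherent (R := Y.ringCatSheaf)
  haveI := h₂ q
  haveI := h₃ q
  have hI : (kernel (HomologicalComplex.homologyMap S.g q)).IsQuasicoherent :=
    Lib.QCoh.Closure.isQCoh_kernel _
  have ex := hS.homology_exact₂ q
  cases q with
  | zero =>
    haveI : Mono (HomologicalComplex.homologyMap S.f 0) := by
      haveI := hS.mono_f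
      haveI : Mono (HomologicalComplex.cyclesMap S.f 0) := inferInstance
      have h := HomologicalComplex.homologyπ_naturality S.f 0
      haveI : IsIso (S.X₁.homologyπ 0) := (CochainComplex.isoHomologyπ₀ S.X₁).isIso_hom
      haveI : IsIso (S.X₂.homologyπ 0) := (CochainComplex.isoHomologyπ₀ S.X₂).isIso_hom
      have e : HomologicalComplex.homologyMap S.f 0 =
          inv (S.X₁.homologyπ 0) ≫ HomologicalComplex.cyclesMap S.f 0 ≫ S.X₂.homologyπ 0 := by
        rw [← h, IsIso.inv_hom_id_assoc]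
      rw [e]; infer_instance
    exact Q.prop_of_iso
      ((kernelIsKernel _).conePointUniqueUpToIso ex.fIsKernel) hI
  | succ k =>
    haveI := h₂ k
    haveI := h₃ k
    have hC : (cokernel (HomologicalComplex.homologyMap S.g k)).IsQuasicoherent :=
      Lib.QCoh.Closure.isQCoh_cokernel _
    have ex₃ := hS.homology_exact₃ k (k + 1) rfl
    have ex₁ := hS.homology_exact₁ k (k + 1) rfl
    let t := ShortComplex.mk
      (cokernel.desc (HomologicalComplex.homologyMap S.g k) (hS.δ k (k + 1) rfl) (hS.comp_δ _ _ _))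
      (kernel.lift (HomologicalComplex.homologyMap S.g (k + 1))
        (HomologicalComplex.homologyMap S.f (k + 1))
        (by rw [← HomologicalComplex.homologyMap_comp, S.zero, HomologicalComplex.homologyMap_zero]))
      (by
        refine (cancel_epi (cokernel.π _)).1 ((cancel_mono (kernel.ι _)).1 ?_)
        simp only [Category.assoc, kernel.lift_ι, comp_zero, zero_comp]
        rw [cokernel.π_desc_assoc]
        exact hS.δ_comp _ _ _)
    refine @Lib.QCoh.Closure.isQCoh_of_extension _ t ?_ hC hI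
    haveI : Mono t.f := ex₃.mono_cokernelDesc
    haveI : Epi t.g := ex.epi_kernelLift
    refine { exact := ?_ }
    let t' := ShortComplex.mk (hS.δ k (k + 1) rfl) (HomologicalComplex.homologyMap S.f (k + 1))
      (hS.δ_comp _ _ _)
    let φ₁ : t' ⟶ ShortComplex.mk t.f (HomologicalComplex.homologyMap S.f (k + 1))
        (by
          refine (cancel_epi (cokernel.π _)).1 ?_
          rw [comp_zero, cokernel.π_desc_assoc]
          exact hS.δ_comp _ _ _) :=
      { τ₁ := cokernel.π _, τ₂ := 𝟙 _, τ₃ := 𝟙 _, comm₁₂ := by simp [t, t'], comm₂₃ := by simp [t'] }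
    let φ₂ : t ⟶ ShortComplex.mk t.f (HomologicalComplex.homologyMap S.f (k + 1))
        (by
          refine (cancel_epi (cokernel.π _)).1 ?_
          rw [comp_zero, cokernel.π_desc_assoc]
          exact hS.δ_comp _ _ _) :=
      { τ₁ := 𝟙 _, τ₂ := 𝟙 _, τ₃ := kernel.ι _, comm₁₂ := by simp, comm₂₃ := by simp [t] }
    haveI : Epi φ₁.τ₁ := by dsimp [φ₁]; infer_instance
    haveI : IsIso φ₁.τ₂ := by dsimp [φ₁]; infer_instance
    haveI : Mono φ₁.τ₃ := by dsimp [φ₁]; infer_instance
    haveI : Epi φ₂.τ₁ := by dsimp [φ₂]; infer_instance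
    haveI : IsIso φ₂.τ₂ := by dsimp [φ₂]; infer_instance
    haveI : Mono φ₂.τ₃ := by dsimp [φ₂]; infer_instance
    exact (ShortComplex.exact_iff_of_epi_of_isIso_of_mono φ₂).2
      ((ShortComplex.exact_iff_of_epi_of_isIso_of_mono φ₁).1 ex₁)


omit h in
theorem isQCoh_rightDerived_of_ses {G H K : Y.Modules ⥤ Y.Modules} [G.Additive] [H.Additive]
    [K.Additive] (a : G ⟶ H) (b : H ⟶ K) (w : ∀ Z, a.app Z ≫ b.app Z = 0)
    (hab : ∀ I, Injective I → (ShortComplex.mk (a.app I) (b.app I) (w I)).ShortExact)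
    (F : Y.Modules) (h₂ : ∀ n, ((H.rightDerived n).obj F).IsQuasicoherent)
    (h₃ : ∀ n, ((K.rightDerived n).obj F).IsQuasicoherent) (q : ℕ) :
    ((G.rightDerived q).obj F).IsQuasicoherent :=
  let Q := SheafOfModules.isQuasicoherent (R := Y.ringCatSheaf)
  let P := injectiveResolution F
  Q.prop_of_iso (P.isoRightDerivedObj G q).symm
    (isQCoh_homology₁ (H30.DerivedSES.cx_shortExact a b w hab P)
      (fun n => Q.prop_of_iso (P.isoRightDerivedObj H n) (h₂ n))
      (fun n => Q.prop_of_iso (P.isoRightDerivedObj K n) (h₃ n)) q)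

theorem isQCoh_rightDerived_T [QuasiCompact j₁] [QuasiCompact j₂] (F : Y.Modules)
    [F.IsQuasicoherent] (q : ℕ) : (((T V₂ V₁).rightDerived q).obj F).IsQuasicoherent := by
  obtain ⟨e⟩ := nonempty_tFun_comp_iso h
  exact isQCoh_rightDerived_of_ses (f (V₂ := V₂) (V₁ := V₁)) (g (V₂ := V₂) (V₁ := V₁))
    (fun Z => GammaZ.ι_η j₂ _) seq_shortExact F (fun n => isQCoh_rightDerived_tFun F n)
    (fun n => ObjectProperty.prop_of_iso (SheafOfModules.isQuasicoherent (R := Y.ringCatSheaf))
      ((Groth.Agent.Lib.BigEt.Derived.natIsoIso e n).app F).symm (isQCoh_rightDerived_tFun F n)) q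

end QCoh

section Compare

/-- The underlying abelian sheaf. -/
noncomputable abbrev abF : Y.Modules ⥤ CohTop.Ab (Y.carrier : TopCat.{u}) :=
  SheafOfModules.toSheaf Y.ringCatSheaf

variable (F : Y.Modules)

lemma image_preimage (W V' : Y.Opens) : W.ι ''ᵁ W.ι ⁻¹ᵁ V' = W ⊓ V' := by
  rw [Scheme.Hom.image_preimage_eq_opensRange_inf, Scheme.Opens.opensRange_ι]

/-- Sections of `T` over `V'` inside `F(V₁ ∩ V')`. -/
noncomputable def valT (V' : Y.Opens) :
    ((abF ).obj ((T V₂ V₁).obj F)).obj.obj (op V') →+ Γ(F, V₁ ⊓ V') :=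
  AddMonoidHom.comp
    (F.presheaf.map (eqToHom (image_preimage V₁ V').symm).op).hom
    (((f (V₂ := V₂) (V₁ := V₁)).app F).app V').hom

lemma valT_injective (V' : Y.Opens) : Function.Injective (valT (V₂ := V₂) (V₁ := V₁) F V') := by
  haveI : Mono ((f (V₂ := V₂) (V₁ := V₁)).app F) := equalizer.ι_mono
  exact ((ConcreteCategory.isIso_iff_bijective
      (F.presheaf.map (eqToHom (image_preimage V₁ V').symm).op)).1 inferInstance).1.comp
    (Lib.QCoh.Closure.sections_injective_of_mono _ V')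

lemma map_map' {A B C : Y.Opens} (a : B ≤ A) (b : C ≤ B) (x : Γ(F, A)) :
    F.presheaf.map (homOfLE b).op (F.presheaf.map (homOfLE a).op x) =
      F.presheaf.map (homOfLE (b.trans a)).op x :=
  (ConcreteCategory.congr_hom (F.presheaf.map_comp _ _) x).symm

lemma map_two {A B B' C : (Opens Y)ᵒᵖ} (a : A ⟶ B) (b : B ⟶ C) (c : A ⟶ B') (d : B' ⟶ C)
    (x : F.presheaf.obj A) :
    F.presheaf.map b (F.presheaf.map a x) = F.presheaf.map d (F.presheaf.map c x) :=
  ((ConcreteCategory.congr_hom (F.presheaf.map_comp _ _) x).symm.trans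
    (congrArg (fun e => F.presheaf.map e x) (Subsingleton.elim _ _))).trans
    (ConcreteCategory.congr_hom (F.presheaf.map_comp _ _) x)

lemma valT_range (V' : Y.Opens) (s : Γ(F, V₁ ⊓ V')) :
    (∃ x, valT (V₂ := V₂) (V₁ := V₁) F V' x = s) ↔
      F.presheaf.map (homOfLE (inf_le_inf_right V' h)).op s = 0 := by
  have e1 : V₁ ⊓ V' = j₁ ''ᵁ j₁ ⁻¹ᵁ V' := (image_preimage V₁ V').symm
  have e2 : j₁ ''ᵁ j₁ ⁻¹ᵁ (j₂ ''ᵁ j₂ ⁻¹ᵁ V') = V₂ ⊓ V' := by
    rw [image_preimage, image_preimage, ← inf_assoc,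
      inf_eq_right.2 h]
  haveI : Mono ((f (V₂ := V₂) (V₁ := V₁)).app F) := equalizer.ι_mono
  have hT : (ShortComplex.mk ((f (V₂ := V₂) (V₁ := V₁)).app F) ((g (V₂ := V₂) (V₁ := V₁)).app F)
      (GammaZ.ι_η j₂ _)).Exact := ShortComplex.exact_of_f_is_kernel _ (kernelIsKernel _)
  have hg : ∀ t : Γ((GammaZ.tFun j₁).obj F, V'),
      ((g (V₂ := V₂) (V₁ := V₁)).app F).app V' t = 0 ↔
        F.presheaf.map (homOfLE (Scheme.Hom.image_mono j₁ (Scheme.Hom.preimage_mono j₁ (Scheme.Hom.image_preimage_le j₂ V')))).op t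
          = 0 := by
    intro t
    change ((Scheme.Modules.restrictAdjunction j₂).unit.app ((GammaZ.tFun j₁).obj F)).app V' t = 0 ↔ _
    rw [Scheme.Modules.restrictAdjunction_unit_app_app]
    rfl
  constructor
  · rintro ⟨x, rfl⟩
    have hx : ((g (V₂ := V₂) (V₁ := V₁)).app F).app V'
        (((f (V₂ := V₂) (V₁ := V₁)).app F).app V' x) = 0 :=
      Lib.QCoh.Closure.sections_comp (S := ShortComplex.mk _ _ (GammaZ.ι_η j₂ _)) V' x
    rw [hg] at hx
    refine (map_map' F (le_of_eq e1) (inf_le_inf_right V' h) _).trans ?_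
    refine (map_map' F (Scheme.Hom.image_mono j₁ (Scheme.Hom.preimage_mono j₁ (Scheme.Hom.image_preimage_le j₂ V')))
      (ge_of_eq e2) _).symm.trans ?_
    exact (congrArg _ hx).trans (map_zero _)
  · intro hs
    obtain ⟨x, hx⟩ := Lib.QCoh.Closure.sections_exact hT V'
      (F.presheaf.map (homOfLE (ge_of_eq e1)).op s) ((hg _).2 (by
        refine (map_map' F _ _ s).trans ?_
        refine (map_map' F (inf_le_inf_right V' h) (le_of_eq e2) s).symm.trans ?_
        exact (congrArg _ hs).trans (map_zero _)))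
    refine ⟨x, ?_⟩
    refine (congrArg (F.presheaf.map _) hx).trans ((map_map' F (ge_of_eq e1) (le_of_eq e1) s).trans ?_)
    exact (congrArg (fun a => F.presheaf.map a s) (Subsingleton.elim _ (𝟙 _))).trans
      (ConcreteCategory.congr_hom (F.presheaf.map_id _) s)

include h in
lemma val_range (V' : Y.Opens) (s : Γ(F, V₁ ⊓ V')) :
    (∃ x, SectLC.val (X := Y.carrier) h (abF.obj F) V' x = s) ↔
      F.presheaf.map (homOfLE (inf_le_inf_right V' h)).op s = 0 :=
  ⟨fun ⟨x, hx⟩ => hx ▸ SectLC.val_mem (X := Y.carrier) h (abF.obj F) V' x,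
    fun hs => SectLC.exists_val_eq (X := Y.carrier) h (abF.obj F) V' ⟨s, hs⟩⟩

include h in
lemma exists_val_eq_valT (V' : Y.Opens) (x) :
    ∃ z, SectLC.val (X := Y.carrier) h (abF.obj F) V' z = valT (V₂ := V₂) (V₁ := V₁) F V' x :=
  (val_range h F V' _).2 ((valT_range h F V' _).1 ⟨x, rfl⟩)

/-- Comparison on sections. -/
noncomputable def eqv (V' : Y.Opens) :
    ((abF).obj ((T V₂ V₁).obj F)).obj.obj (op V') ≃+
      ((SuppFam.sectSuppLC (X := Y.carrier) h).obj (abF.obj F)).obj.obj (op V') :=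
  AddEquiv.ofBijective
    (AddMonoidHom.mk' (fun x => (exists_val_eq_valT h F V' x).choose)
      (fun x y => SectLC.val_injective (X := Y.carrier) h (abF.obj F) V'
        ((exists_val_eq_valT h F V' (x + y)).choose_spec.trans
          ((map_add (valT (V₂ := V₂) (V₁ := V₁) F V') x y).trans
            ((congrArg₂ (· + ·) (exists_val_eq_valT h F V' x).choose_spec.symm
              (exists_val_eq_valT h F V' y).choose_spec.symm).trans (map_add _ _ _).symm)))))
    ⟨fun x y hxy => valT_injective F V'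
        ((exists_val_eq_valT h F V' x).choose_spec.symm.trans
          ((congrArg _ hxy).trans (exists_val_eq_valT h F V' y).choose_spec)),
     fun z => by
        obtain ⟨x, hx⟩ := (valT_range h F V' _).2 ((val_range h F V' _).1 ⟨z, rfl⟩)
        exact ⟨x, SectLC.val_injective (X := Y.carrier) h (abF.obj F) V'
          ((exists_val_eq_valT h F V' x).choose_spec.trans hx)⟩⟩

lemma val_eqv (V' : Y.Opens) (x) : SectLC.val (X := Y.carrier) h (abF.obj F) V' (eqv h F V' x) =
    valT (V₂ := V₂) (V₁ := V₁) F V' x :=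
  (exists_val_eq_valT h F V' x).choose_spec

lemma valT_res {V' V'' : Y.Opens} (i : V'' ≤ V') (x) :
    valT (V₂ := V₂) (V₁ := V₁) F V''
      ((abF.obj ((T V₂ V₁).obj F)).obj.map (homOfLE i).op x) =
      F.presheaf.map (homOfLE (inf_le_inf_left V₁ i)).op (valT (V₂ := V₂) (V₁ := V₁) F V' x) := by
  refine (congrArg (F.presheaf.map (eqToHom (image_preimage V₁ V'').symm).op) (NatTrans.naturality_apply
    ((Scheme.Modules.toPresheaf Y).map ((f (V₂ := V₂) (V₁ := V₁)).app F)) (homOfLE i).op x)).trans ?_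
  exact map_two F (homOfLE ((Scheme.Hom.image_mono j₁ (Scheme.Hom.preimage_mono j₁ i)))).op
    (eqToHom (image_preimage V₁ V'').symm).op (eqToHom (image_preimage V₁ V').symm).op
    (homOfLE (inf_le_inf_left V₁ i)).op (((f (V₂ := V₂) (V₁ := V₁)).app F).app V' x)

lemma valT_map {G : Y.Modules} (φ : F ⟶ G) (V' : Y.Opens) (x) :
    valT (V₂ := V₂) (V₁ := V₁) G V' ((abF.map ((T V₂ V₁).map φ)).hom.app (op V') x) =
      φ.app (V₁ ⊓ V') (valT (V₂ := V₂) (V₁ := V₁) F V' x) := by
  refine Eq.trans ?_ (NatTrans.naturality_apply ((Scheme.Modules.toPresheaf Y).map φ)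
    (eqToHom (image_preimage V₁ V').symm).op (((f (V₂ := V₂) (V₁ := V₁)).app F).app V' x)).symm
  refine congrArg (G.presheaf.map (eqToHom (image_preimage V₁ V').symm).op) ?_
  exact ConcreteCategory.congr_hom (congrArg (fun a : _ ⟶ (GammaZ.tFun j₁).obj G => a.app V')
    ((f (V₂ := V₂) (V₁ := V₁)).naturality φ)) x

/-- The comparison `toAb ∘ T = sectSuppLC ∘ toAb`. -/
noncomputable def θ : T V₂ V₁ ⋙ abF ≅ abF ⋙ SuppFam.sectSuppLC (X := Y.carrier) h :=
  NatIso.ofComponents
    (fun F => (fullyFaithfulSheafToPresheaf _ _).preimageIso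
      (NatIso.ofComponents (fun V' => (eqv h F V'.unop).toAddCommGrpIso) (fun {A B} i => by
        ext x
        apply SectLC.val_injective (X := Y.carrier) h (abF.obj F) B.unop
        rw [show i = (homOfLE (leOfHom i.unop)).op from Subsingleton.elim _ _]
        refine (val_eqv h F B.unop _).trans ((valT_res F (leOfHom i.unop) x).trans ?_)
        refine Eq.trans ?_ (SectLC.val_res (X := Y.carrier) h (abF.obj F) A.unop (leOfHom i.unop)
          (eqv h F A.unop x)).symm
        exact congrArg _ (val_eqv h F A.unop x).symm)))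
    (fun {F G} φ => by
      apply (fullyFaithfulSheafToPresheaf _ _).map_injective
      ext V' x
      apply SectLC.val_injective (X := Y.carrier) h (abF.obj G) V'.unop
      refine (val_eqv h G V'.unop _).trans ((valT_map F φ V'.unop x).trans ?_)
      refine Eq.trans ?_ (SectLC.val_map (X := Y.carrier) h (abF.obj F) V'.unop (abF.map φ)
        (eqv h F V'.unop x)).symm
      exact congrArg _ (val_eqv h F V'.unop x).symm)

include h in
theorem nonempty_toAb_iso (q : ℕ) :
    Nonempty (abF.obj (((T V₂ V₁).rightDerived q).obj F) ≅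
      (SuppFam.HZshLC (X := Y.carrier) h q).obj (abF.obj F)) := by
  match q with
  | 0 => exact ⟨abF.mapIso ((T V₂ V₁).rightDerivedZeroIsoSelf.app F) ≪≫ (θ h).app F ≪≫
      ((SuppFam.sectSuppLC (X := Y.carrier) h).rightDerivedZeroIsoSelf.app (abF.obj F)).symm⟩
  | k + 1 =>
    let P := injectiveResolution F
    let S := fun k => (Groth.Agent.Lib.EtJ.RightAcyclic.seq P k).map abF
    obtain ⟨i⟩ := Lib.CohDelta.RAcyc.nonempty_coker_iso (SuppFam.sectSuppLC (X := Y.carrier) h) S
      (fun k => (Groth.Agent.Lib.EtJ.RightAcyclic.seq_shortExact P k).map_of_exact abF)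
      (fun k => Iso.refl _)
      (fun k n => by
        haveI := P.injective k
        haveI : TopCat.Sheaf.IsFlasque (S k).X₂ :=
          Lib.CohDelta.Flasque.isFlasque_toAb (P.cocomplex.X k)
        exact isZero_HZshLC_flasque (X := Y.carrier) h (S k).X₂ n) k
    exact ⟨abF.mapIso (H30.RightAcyc.isoCokernel P (T V₂ V₁) k) ≪≫ PreservesCokernel.iso abF _ ≪≫
      cokernel.mapIso _ _ ((θ h).app _) ((θ h).app _) ((θ h).hom.naturality _) ≪≫ i.symm ≪≫
      (SuppFam.HZshLC (X := Y.carrier) h (k + 1)).mapIso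
        (abF.mapIso (Groth.Agent.Lib.EtJ.RightAcyclic.isoCyc₀ P)).symm⟩

include h in
theorem exists_isQCoh [QuasiCompact j₁] [QuasiCompact j₂] (hF : Coh.IsQCoh F) (q : ℕ) :
    ∃ M : Y.Modules, Coh.IsQCoh M ∧
      Nonempty (Coh.toAb M ≅ (SuppFam.HZshLC (X := Y.carrier) h q).obj (Coh.toAb F)) :=
  haveI : F.IsQuasicoherent := hF
  ⟨_, isQCoh_rightDerived_T h F q, nonempty_toAb_iso h F q⟩

end Compare

end Groth.Agent.H30.LocZ.QCohLC
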