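import Groth.Agent.H30.LocZ.Vanish
import Groth.Agent.H30.LocZ.OpenSeq
import Groth.Agent.H30.RpushRestr
import Groth.Prelude.Def_SuppFam

/-!
# Sections of `Γ_Z` for `Z` locally closed

`lcEquiv`: `Γ(V', Γ_Z G) = Hom(ℤ_{V∩V'}/ℤ_{W∩V'}, G)`, natural in `G` and `V'`.
-/

set_option autoImplicit false
set_option linter.style.haveILetI false

universe u

open CategoryTheory Limits Opposite TopologicalSpace
open Groth.Agent.Lib.SiteCoh.Basic Groth.Agent.Lib.LocCohSS.Basic

namespace Groth.Agent.H30.LocZ.SectLC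

variable {X : TopCat.{u}} {W V : Opens X} (h : W ≤ V)

/-- Trace on `V`. -/
abbrev tr (V' : Opens X) : Opens (TopCat.of V) := (Opens.map (CohCx.incl V)).obj V'

lemma img_tr (V' : Opens X) : V.isOpenEmbedding.isOpenMap.functor.obj (tr V') = V ⊓ V' := by
  ext x
  exact ⟨fun ⟨y, hy, e⟩ => e ▸ ⟨y.2, hy⟩, fun hx => ⟨⟨x, hx.1⟩, hx.2, rfl⟩⟩

include h in
lemma img_tr_inf (V' : Opens X) :
    V.isOpenEmbedding.isOpenMap.functor.obj (tr V' ⊓ SuppFam.inOpen V W) = W ⊓ V' := by
  ext x
  exact ⟨fun ⟨y, hy, e⟩ => e ▸ ⟨hy.2, hy.1⟩, fun hx => ⟨⟨x, h hx.1⟩, ⟨hx.2, hx.1⟩, rfl⟩⟩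

instance sectSuppLC_preservesFiniteLimits : PreservesFiniteLimits (SuppFam.sectSuppLC h) :=
  haveI : PreservesLimitsOfSize.{0, 0} (CohTop.push (CohCx.incl V)) :=
    (TopCat.Sheaf.pullbackPushforwardAdjunction AddCommGrpCat.{u}
      (CohCx.incl V)).rightAdjoint_preservesLimits
  haveI : PreservesFiniteLimits (CohTop.push (CohCx.incl V)) :=
    PreservesLimitsOfSize.preservesFiniteLimits _
  haveI := Vanish.sectSuppF_preservesFiniteLimits (X := TopCat.of V) (SuppFam.inOpen V W)
  haveI := RpushRestr.restr_preservesFiniteLimits V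
  haveI : PreservesFiniteLimits
      (LocCohZ.sectSuppF (SuppFam.inOpen V W) ⋙ CohTop.push (CohCx.incl V)) :=
    comp_preservesFiniteLimits _ _
  comp_preservesFiniteLimits (CohTop.restrFunctor V)
    (LocCohZ.sectSuppF (SuppFam.inOpen V W) ⋙ CohTop.push (CohCx.incl V))

variable (G : CohTop.Ab X) (V' : Opens X)

/-- The section of `G` underlying a section with supports. -/
noncomputable def val : ((SuppFam.sectSuppLC h).obj G).obj.obj (op V') →+ G.obj.obj (op (V ⊓ V')) :=
  (((OpenSeq.ι (SuppFam.inOpen V W)).app ((CohTop.restrFunctor V).obj G)).hom.app (op (tr V')) ≫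
    G.obj.map (eqToHom (img_tr V').symm).op).hom

lemma val_apply (x : ((SuppFam.sectSuppLC h).obj G).obj.obj (op V')) :
    val h G V' x = G.obj.map (eqToHom (img_tr V').symm).op
      (((OpenSeq.ι (SuppFam.inOpen V W)).app ((CohTop.restrFunctor V).obj G)).hom.app (op (tr V')) x) :=
  rfl

lemma ι_app_eq (x : ((LocCohZ.sectSuppF (SuppFam.inOpen V W)).obj
      ((CohTop.restrFunctor V).obj G)).obj.obj (op (tr V'))) :
    ((OpenSeq.ι (SuppFam.inOpen V W)).app ((CohTop.restrFunctor V).obj G)).hom.app (op (tr V')) x =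
      (homZqEquiv _ _ (Vanish.supp (SuppFam.inOpen V W) ((CohTop.restrFunctor V).obj G) (tr V')
        ((homEquiv (tr V') _).symm x))).1 := by
  refine Eq.trans ?_ (congrArg (homEquiv (tr V') ((CohTop.restrFunctor V).obj G))
    (cokernel.π_desc _ _ _)).symm
  refine Eq.trans ?_ (homEquiv_comp _ _).symm
  exact congrArg _ ((homEquiv (tr V') _).apply_symm_apply x).symm

lemma val_injective : Function.Injective (val h G V') := by
  haveI : IsIso (G.obj.map (eqToHom (img_tr (V := V) V').symm).op) := inferInstance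
  intro a b hab
  rw [val_apply, val_apply] at hab
  have hab' := ((ConcreteCategory.isIso_iff_bijective _).1 inferInstance).1 hab
  rw [ι_app_eq, ι_app_eq] at hab'
  exact (homEquiv (tr V') _).symm.injective ((Vanish.supp (SuppFam.inOpen V W) _ (tr V')).injective
    ((homZqEquiv _ _).injective (Subtype.ext hab')))

lemma val_mem (x : ((SuppFam.sectSuppLC h).obj G).obj.obj (op V')) :
    val h G V' x ∈ LocCohZ.sectZ G (inf_le_inf_right V' h : W ⊓ V' ≤ V ⊓ V') := by
  let t := homZqEquiv _ _ (Vanish.supp (SuppFam.inOpen V W) ((CohTop.restrFunctor V).obj G) (tr V')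
    ((homEquiv (tr V') _).symm x))
  have ht : G.obj.map (homOfLE (V.isOpenEmbedding.isOpenMap.functor.monotone
      (inf_le_left : tr V' ⊓ SuppFam.inOpen V W ≤ tr V'))).op t.1 = 0 := t.2
  show G.obj.map (homOfLE (inf_le_inf_right V' h)).op (val h G V' x) = 0
  rw [val_apply, ι_app_eq]
  refine ((ConcreteCategory.congr_hom (G.obj.map_comp _ _) _).symm.trans
    (congrArg (fun a => G.obj.map a t.1) (Subsingleton.elim _
      ((homOfLE (V.isOpenEmbedding.isOpenMap.functor.monotone
        (inf_le_left : tr V' ⊓ SuppFam.inOpen V W ≤ tr V'))).op ≫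
          (eqToHom (img_tr_inf h V').symm).op)))).trans ?_
  exact (ConcreteCategory.congr_hom (G.obj.map_comp _ _) _).trans
    ((congrArg (G.obj.map (eqToHom (img_tr_inf h V').symm).op) ht).trans (map_zero _))

lemma exists_val_eq (s : LocCohZ.sectZ G (inf_le_inf_right V' h : W ⊓ V' ≤ V ⊓ V')) :
    ∃ x, val h G V' x = s.1 := by
  let s' : G.obj.obj (op (V.isOpenEmbedding.isOpenMap.functor.obj (tr V'))) :=
    G.obj.map (eqToHom (img_tr V')).op s.1
  have hs' : G.obj.map (homOfLE (V.isOpenEmbedding.isOpenMap.functor.monotone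
      (inf_le_left : tr V' ⊓ SuppFam.inOpen V W ≤ tr V'))).op s' = 0 :=
    ((ConcreteCategory.congr_hom (G.obj.map_comp _ _) _).symm.trans
      (congrArg (fun a => G.obj.map a s.1) (Subsingleton.elim _
        ((homOfLE (inf_le_inf_right V' h)).op ≫ (eqToHom (img_tr_inf h V')).op)))).trans
      ((ConcreteCategory.congr_hom (G.obj.map_comp _ _) _).trans
        ((congrArg (G.obj.map (eqToHom (img_tr_inf h V')).op) s.2).trans (map_zero _)))
  let t : LocCohZ.sectZ ((CohTop.restrFunctor V).obj G)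
      (inf_le_left : tr V' ⊓ SuppFam.inOpen V W ≤ tr V') := ⟨s', hs'⟩
  refine ⟨homEquiv (tr V') _ ((Vanish.supp (SuppFam.inOpen V W) _ (tr V')).symm
    ((homZqEquiv _ _).symm t)), ?_⟩
  rw [val_apply, ι_app_eq, AddEquiv.symm_apply_apply, AddEquiv.apply_symm_apply,
    AddEquiv.apply_symm_apply]
  exact (ConcreteCategory.congr_hom (G.obj.map_comp _ _) _).symm.trans
    ((congrArg (fun a => G.obj.map a s.1) (Subsingleton.elim _ (𝟙 _))).trans
      (ConcreteCategory.congr_hom (G.obj.map_id _) _))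

lemma val_res {V'' : Opens X} (i : V'' ≤ V') (x : ((SuppFam.sectSuppLC h).obj G).obj.obj (op V')) :
    val h G V'' (((SuppFam.sectSuppLC h).obj G).obj.map (homOfLE i).op x) =
      G.obj.map (homOfLE (inf_le_inf_left V i)).op (val h G V' x) := by
  rw [val_apply, val_apply]
  refine (congrArg _ (NatTrans.naturality_apply
    (((OpenSeq.ι (SuppFam.inOpen V W)).app ((CohTop.restrFunctor V).obj G)).hom)
    ((Opens.map (CohCx.incl V)).map (homOfLE i)).op x)).trans ?_
  exact (ConcreteCategory.congr_hom (G.obj.map_comp _ _) _).symm.trans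
    ((congrArg (fun a => G.obj.map a _) (Subsingleton.elim _ _)).trans
      (ConcreteCategory.congr_hom (G.obj.map_comp _ _) _))

lemma val_map {G' : CohTop.Ab X} (φ : G ⟶ G') (x : ((SuppFam.sectSuppLC h).obj G).obj.obj (op V')) :
    val h G' V' (((SuppFam.sectSuppLC h).map φ).hom.app (op V') x) =
      φ.hom.app (op (V ⊓ V')) (val h G V' x) := by
  rw [val_apply, val_apply]
  refine (congrArg _ ?_).trans (NatTrans.naturality_apply φ.hom (eqToHom (img_tr V').symm).op _).symm
  exact ConcreteCategory.congr_hom (congrArg (fun a : _ ⟶ (CohTop.restrFunctor V).obj G' =>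
    a.hom.app (op (tr V'))) ((OpenSeq.ι (SuppFam.inOpen V W)).naturality
      ((CohTop.restrFunctor V).map φ))) x

/-- Sections of `Γ_Z G` over `V'`. -/
noncomputable def lcEquiv : ((SuppFam.sectSuppLC h).obj G).obj.obj (op V') ≃+
    (LocCohZ.zq (inf_le_inf_right V' h : W ⊓ V' ≤ V ⊓ V') ⟶ G) :=
  (AddEquiv.ofBijective
    ((val h G V').codRestrict (LocCohZ.sectZ G (inf_le_inf_right V' h)) (val_mem h G V'))
    ⟨fun a b hab => val_injective h G V' (congrArg Subtype.val hab),
     fun s => (exists_val_eq h G V' s).imp fun _ hx => Subtype.ext hx⟩).trans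
    (homZqEquiv _ G).symm

lemma homZqEquiv_lcEquiv (x : ((SuppFam.sectSuppLC h).obj G).obj.obj (op V')) :
    (homZqEquiv _ G (lcEquiv h G V' x)).1 = val h G V' x :=
  congrArg Subtype.val ((homZqEquiv _ G).apply_symm_apply _)

lemma lcEquiv_map {G' : CohTop.Ab X} (φ : G ⟶ G')
    (x : ((SuppFam.sectSuppLC h).obj G).obj.obj (op V')) :
    lcEquiv h G' V' (((SuppFam.sectSuppLC h).map φ).hom.app (op V') x) = lcEquiv h G V' x ≫ φ := by
  apply (homZqEquiv _ G').injective
  refine Subtype.ext ((homZqEquiv_lcEquiv h G' V' _).trans ((val_map h G V' φ x).trans ?_))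
  rw [← homZqEquiv_lcEquiv]
  refine (homEquiv_comp _ φ).symm.trans ?_
  exact congrArg (homEquiv (V ⊓ V') G') (Category.assoc _ _ _)

lemma lcEquiv_res {V'' : Opens X} (i : V'' ≤ V')
    (x : ((SuppFam.sectSuppLC h).obj G).obj.obj (op V')) :
    lcEquiv h G V'' (((SuppFam.sectSuppLC h).obj G).obj.map (homOfLE i).op x) =
      LocCohZ.zqMap (inf_le_inf_right V' h) (inf_le_inf_right V'' h) (inf_le_inf_left W i)
        (inf_le_inf_left V i) ≫ lcEquiv h G V' x := by
  apply (homZqEquiv _ G).injective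
  refine Subtype.ext ((homZqEquiv_lcEquiv h G V'' _).trans ((val_res h G V' i x).trans ?_))
  rw [← homZqEquiv_lcEquiv]
  refine (homEquiv'_naturality_left (homOfLE (inf_le_inf_left V i)) G _).symm.trans ?_
  refine congrArg (homEquiv (V ⊓ V'') G) ?_
  exact (Category.assoc _ _ _).symm.trans ((congrArg (· ≫ lcEquiv h G V' x)
    (cokernel.π_desc _ _ _).symm).trans (Category.assoc _ _ _))

end Groth.Agent.H30.LocZ.SectLC
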