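import Groth.Agent.H30.LocZ.DepthStalk
import Groth.Agent.Lib.Cech.Compare
import Groth.Agent.Lib.QDepth.Local
import Groth.Agent.Lib.RefHull.LocFree
import Groth.Agent.Lib.Perfect.Coherent

/-!
# `Γ(X, ℋ^d_Z F) = H^d_Z(X, F)` when `ℋ^i_Z F = 0` for `i < d`
-/

set_option autoImplicit false
set_option linter.style.haveILetI false

universe u

open CategoryTheory Limits Opposite TopologicalSpace Abelian
open Groth.Agent.Lib.SiteCoh.Basic Groth.Agent.Lib.LocCohSS.Basic
open Groth.Agent.Lib.EtJ.RightAcyclic Groth.Agent.H30.RightAcyc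

namespace Groth.Agent.H30.LocZ.SectionsTop

variable {X : TopCat.{u}} (U : Opens X)

/-- Global sections with supports. -/
noncomputable def topEquiv (G : CohTop.Ab X) :
    ((LocCohZ.sectSuppF U).obj G).obj.obj (op (⊤ : Opens X)) ≃+
      (LocCohZ.zq (le_top : U ≤ ⊤) ⟶ G) :=
  (homEquiv (⊤ : Opens X) _).symm.trans
    (suppHomEquiv U G ((Vanish.image_preimage_eq U ⊤).trans (top_inf_eq U)) le_top)

lemma topEquiv_map {G G' : CohTop.Ab X} (φ : G ⟶ G')
    (x : ((LocCohZ.sectSuppF U).obj G).obj.obj (op (⊤ : Opens X))) :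
    topEquiv U G' (((LocCohZ.sectSuppF U).map φ).hom.app (op ⊤) x) = topEquiv U G x ≫ φ := by
  simp only [topEquiv, AddEquiv.trans_apply]
  rw [← suppHomEquiv_comp]
  exact congrArg _ (homEquiv_symm_comp x ((LocCohZ.sectSuppF U).map φ)).symm

lemma flasque_cyc (F : CohTop.Ab X) (P : InjectiveResolution F) {n : ℕ}
    (h : ∀ i, i < n → IsZero ((LocCohZ.HZsh U i).obj F)) :
    ∀ k, k < n → TopCat.Sheaf.IsFlasque ((LocCohZ.sectSuppF U).obj (cyc P k)) := by
  haveI := Vanish.sectSuppF_preservesFiniteLimits U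
  intro k hk
  induction k with
  | zero =>
    have hz : IsZero ((LocCohZ.sectSuppF U).obj (cyc P 0)) :=
      IsZero.of_iso (h 0 hk) (((LocCohZ.sectSuppF U).mapIso (isoCyc₀ P).symm) ≪≫
        ((LocCohZ.sectSuppF U).rightDerivedZeroIsoSelf.app F).symm)
    refine { epi := fun {A B} g => (AddCommGrpCat.epi_iff_surjective _).2 fun s => ⟨0, ?_⟩ }
    rw [map_zero]
    exact (congrArg (fun φ : (LocCohZ.sectSuppF U).obj (cyc P 0) ⟶ (LocCohZ.sectSuppF U).obj (cyc P 0) =>
      φ.hom.app B s) (hz.eq_of_tgt (𝟙 _) 0)).symm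
  | succ j ih =>
    haveI := (seq_shortExact P j).mono_f
    have hS : ((seq P j).map (LocCohZ.sectSuppF U)).ShortExact :=
      { exact := (seq_shortExact P j).exact.map_of_mono_of_preservesKernel _ inferInstance inferInstance
        mono_f := (LocCohZ.sectSuppF U).map_mono _
        epi_g := Abelian.epi_of_cokernel_π_eq_zero _
          ((IsZero.of_iso (h (j + 1) hk)
            (isoCokernel P (LocCohZ.sectSuppF U) j).symm).eq_of_tgt _ _) }
    haveI : TopCat.Sheaf.IsFlasque ((seq P j).map (LocCohZ.sectSuppF U)).X₁ := ih (by omega)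
    haveI : Injective (P.cocomplex.X j) := P.injective j
    haveI := Groth.Agent.Lib.ZarCoh.Basic.isFlasque_of_injective (P.cocomplex.X j)
    haveI : TopCat.Sheaf.IsFlasque ((seq P j).map (LocCohZ.sectSuppF U)).X₂ :=
      Vanish.isFlasque_sectSupp U (P.cocomplex.X j)
    exact TopCat.Sheaf.IsFlasque.of_shortExact_of_isFlasque₁₂ hS

lemma exists_of_shortExact_of_flasque {S : ShortComplex (CohTop.Ab X)} (hS : S.ShortExact)
    [TopCat.Sheaf.IsFlasque S.X₁] (V : Opens X) : Function.Surjective (S.g.hom.app (op V)) :=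
  haveI : Subsingleton (CohTop.HU S.X₁ 1 V) := Groth.Agent.Lib.ZarCoh.Basic.HU_flasque _ V 0
  Groth.Agent.Lib.Cech.Sections.app_surjective hS V

/-- Global sections of a cokernel, for a map with flasque domain and kernel. -/
theorem sections_cokernel {A B C : CohTop.Ab X} (a : A ⟶ B) (b : B ⟶ C) [Mono a] (w : a ≫ b = 0)
    (he : (ShortComplex.mk a b w).Exact) [TopCat.Sheaf.IsFlasque A] [TopCat.Sheaf.IsFlasque B] :
    Function.Surjective ((cokernel.π b).hom.app (op (⊤ : Opens X))) ∧
      ∀ s, (cokernel.π b).hom.app (op (⊤ : Opens X)) s = 0 →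
        ∃ t, b.hom.app (op (⊤ : Opens X)) t = s := by
  let T := ShortComplex.mk a (cokernel.π a) (cokernel.condition a)
  have hT : T.ShortExact :=
    { exact := ShortComplex.exact_cokernel a
      mono_f := inferInstanceAs (Mono a)
      epi_g := inferInstanceAs (Epi (cokernel.π a)) }
  let b' : cokernel a ⟶ C := cokernel.desc a b w
  haveI : Mono b' := by
    have := (ShortComplex.exact_iff_mono_cokernel_desc (ShortComplex.mk a b w)).1 he
    exact this
  have hb : cokernel.π a ≫ b' = b := cokernel.π_desc _ _ _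
  haveI : TopCat.Sheaf.IsFlasque T.X₁ := inferInstanceAs (TopCat.Sheaf.IsFlasque A)
  haveI : TopCat.Sheaf.IsFlasque T.X₂ := inferInstanceAs (TopCat.Sheaf.IsFlasque B)
  haveI := TopCat.Sheaf.IsFlasque.of_shortExact_of_isFlasque₁₂ hT
  have hc : b' ≫ cokernel.π b = 0 := by
    rw [← cancel_epi (cokernel.π a), ← Category.assoc, hb, cokernel.condition, comp_zero]
  let R := ShortComplex.mk b' (cokernel.π b) hc
  have hR : R.ShortExact :=
    { exact := ShortComplex.exact_of_g_is_cokernel _ (CokernelCofork.IsColimit.ofπ _ hc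
        (fun k hk => cokernel.desc b k (by rw [← hb, Category.assoc, hk, comp_zero]))
        (fun k hk => cokernel.π_desc _ _ _)
        (fun k hk m hm => (cancel_epi (cokernel.π b)).1 (hm.trans (cokernel.π_desc _ _ _).symm)))
      mono_f := inferInstanceAs (Mono b')
      epi_g := inferInstanceAs (Epi (cokernel.π b)) }
  haveI : TopCat.Sheaf.IsFlasque R.X₁ := inferInstanceAs (TopCat.Sheaf.IsFlasque T.X₃)
  refine ⟨exists_of_shortExact_of_flasque hR ⊤, fun s hs => ?_⟩
  obtain ⟨r, hr⟩ := Groth.Agent.Lib.Cech.Sections.app_exact hR ⊤ s hs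
  obtain ⟨t, ht⟩ := exists_of_shortExact_of_flasque hT ⊤ r
  refine ⟨t, (ConcreteCategory.congr_hom (congrArg (fun φ : B ⟶ C => φ.hom.app (op (⊤ : Opens X))) hb) t).symm.trans
    ((congrArg (b'.hom.app (op (⊤ : Opens X))) ht).trans hr)⟩

/-- `Γ(X, ℋ^d) = H^d_Z(X)` when the lower sheaves vanish. -/
theorem nonempty_equiv (F : CohTop.Ab X) : ∀ d : ℕ,
    (∀ i, i < d → IsZero ((LocCohZ.HZsh U i).obj F)) →
      Nonempty (((LocCohZ.HZsh U d).obj F).obj.obj (op (⊤ : Opens X)) ≃+ LocCohZ.HZc F d U) := by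
  intro d h
  haveI := Vanish.sectSuppF_preservesFiniteLimits U
  let P := injectiveResolution F
  let G := LocCohZ.sectSuppF U
  match d, h with
  | 0, _ =>
    exact ⟨((((sheafToPresheaf _ _).mapIso (G.rightDerivedZeroIsoSelf.app F)).app (op ⊤)).addCommGroupIsoToAddEquiv).trans
      ((topEquiv U F).trans Ext.addEquiv₀.symm)⟩
  | k + 1, h =>
    haveI := (seq_shortExact P k).mono_f
    haveI : Mono (G.map (seq P k).f) := G.map_mono _
    haveI := flasque_cyc U F P h k k.lt_succ_self
    haveI : Injective (P.cocomplex.X k) := P.injective k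
    haveI := Groth.Agent.Lib.ZarCoh.Basic.isFlasque_of_injective (P.cocomplex.X k)
    haveI : TopCat.Sheaf.IsFlasque (G.obj (seq P k).X₂) := Vanish.isFlasque_sectSupp U (P.cocomplex.X k)
    haveI : TopCat.Sheaf.IsFlasque (G.obj (seq P k).X₁) := flasque_cyc U F P h k k.lt_succ_self
    have hex : ((seq P k).map G).Exact :=
      (seq_shortExact P k).exact.map_of_mono_of_preservesKernel _ inferInstance inferInstance
    obtain ⟨hπ, hker⟩ := sections_cokernel (G.map (seq P k).f) (G.map (seq P k).g)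
      ((seq P k).map G).zero hex
    let φ := ((cokernel.π (G.map (seq P k).g)).hom.app (op (⊤ : Opens X))).hom
    let ψ := (toExt (ofRes P) (LocCohZ.zq (le_top : U ≤ ⊤)) (k + 1)).comp
      (topEquiv U ((ofRes P).cyc (k + 1))).toAddMonoidHom
    have hψ : Function.Surjective ψ :=
      (toExt_surjective (ofRes P) _ (k + 1)).comp (topEquiv U ((ofRes P).cyc (k + 1))).surjective
    have hk : φ.ker = ψ.ker := by
      ext s
      show φ s = 0 ↔ toExt (ofRes P) _ (k + 1) (topEquiv U _ s) = 0
      rw [toExt_succ_eq_zero_iff]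
      constructor
      · intro hs
        obtain ⟨t, rfl⟩ := hker s hs
        exact ⟨topEquiv U _ t, (topEquiv_map U (seq P k).g t).symm⟩
      · rintro ⟨i, hi⟩
        have e : ((LocCohZ.sectSuppF U).map (seq P k).g).hom.app (op ⊤) ((topEquiv U _).symm i) = s := by
          apply (topEquiv U _).injective
          refine (topEquiv_map U (seq P k).g _).trans ?_
          rw [AddEquiv.apply_symm_apply]
          exact hi
        rw [← e]
        exact ConcreteCategory.congr_hom (congrArg (fun t : G.obj (seq P k).X₂ ⟶ _ =>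
          t.hom.app (op (⊤ : Opens X))) (cokernel.condition (G.map (seq P k).g))) _
    exact ⟨((((sheafToPresheaf _ _).mapIso (isoCokernel P G k)).app (op ⊤)).addCommGroupIsoToAddEquiv).trans
      (Groth.Agent.Lib.Cech.Compare.equivOfKerEq φ ψ hπ hψ hk)⟩

end Groth.Agent.H30.LocZ.SectionsTop

namespace Groth.Agent.H30.LocZ.SectionsTop

open AlgebraicGeometry

/-- Depth of a locally free module. -/
theorem le_depth_stalk {X : Scheme.{u}} [IsLocallyNoetherian X] {M : X.Modules}
    (hM : FlatMod.IsFinLocFree M) (x : X) (d : ℕ)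
    (h : (d : ℕ∞) ≤ LocCoh.depth (X.presheaf.stalk x) (X.presheaf.stalk x)) :
    (d : ℕ∞) ≤ LocCoh.depth (X.presheaf.stalk x) (M.presheaf.stalk x) := by
  haveI := Groth.Agent.Lib.RefHull.LocFree.free_stalk hM x
  haveI := Groth.Agent.Lib.RefHull.LocFree.finite_stalk
    (Groth.Agent.Lib.Perfect.Coherent.isCoh_of_isFinLocFree hM) x
  rw [Groth.Agent.Lib.Depth.Basic.depth_congr
    (Module.finBasis (X.presheaf.stalk x) (M.presheaf.stalk x)).equivFun]
  exact Groth.Agent.Lib.QDepth.le_idealDepth_pi _ h _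

end Groth.Agent.H30.LocZ.SectionsTop
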