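import Groth.Agent.H30.LocZ.SectLC
import Groth.Agent.H30.RightAcyc
import Groth.Agent.H30.TopCoh

/-!
# `ℋ^q_Z F` is the sheafification of `V' ↦ H^q_{Z∩V'}(V', F)`, `Z` locally closed
-/

set_option autoImplicit false
set_option linter.style.haveILetI false

universe u

open CategoryTheory Limits Opposite TopologicalSpace Abelian
open Groth.Agent.Lib.EtJ.RightAcyclic Groth.Agent.H30.RightAcyc Groth.Agent.H30.LocZ.SectLC

namespace Groth.Agent.H30.LocZ.SheafifyLC

variable {X : TopCat.{u}} {W V : Opens X} (h : W ≤ V) {F : CohTop.Ab X} (P : InjectiveResolution F)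

/-- The presheaf of sections of `Γ_Z G`. -/
noncomputable abbrev pre (G : CohTop.Ab X) : (Opens X)ᵒᵖ ⥤ AddCommGrpCat.{u} :=
  (sheafToPresheaf (Opens.grothendieckTopology X) AddCommGrpCat.{u}).obj ((SuppFam.sectSuppLC h).obj G)

/-- `Γ(V', Γ_Z Z^k) ⟶ H^k_{Z∩V'}(V', F)`. -/
noncomputable def Φ (k : ℕ) : pre h ((ofRes P).cyc k) ⟶ SuppFam.HZpre F k h where
  app V' := AddCommGrpCat.ofHom
    ((toExt (ofRes P) (LocCohZ.zq (inf_le_inf_right V'.unop h)) k).comp
      (lcEquiv h ((ofRes P).cyc k) V'.unop).toAddMonoidHom)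
  naturality {A B} i := by
    ext s
    show toExt (ofRes P) _ k (lcEquiv h _ B.unop _) =
      (Ext.mk₀ _).comp (toExt (ofRes P) _ k (lcEquiv h _ A.unop s)) (zero_add k)
    rw [← toExt_precomp]
    exact congrArg _ (lcEquiv_res h _ A.unop (leOfHom i.unop) s)

lemma Φ_apply (k : ℕ) (V' : (Opens X)ᵒᵖ) (s : (pre h ((ofRes P).cyc k)).obj V') :
    (Φ h P k).app V' s = toExt (ofRes P) _ k (lcEquiv h ((ofRes P).cyc k) V'.unop s) := rfl

/-- The presheaf of sections in degree zero. -/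
noncomputable def zeroIso : pre h ((ofRes P).cyc 0) ≅ SuppFam.HZpre F 0 h :=
  haveI : ∀ V', IsIso ((Φ h P 0).app V') := fun V' =>
    (ConcreteCategory.isIso_iff_bijective _).2
      ((toExt_zero_bijective (ofRes P) _).comp (lcEquiv h _ V'.unop).bijective)
  haveI := NatIso.isIso_of_isIso_app (Φ h P 0)
  asIso (Φ h P 0)

lemma Φ_succ_eq_zero_iff (k : ℕ) (V' : (Opens X)ᵒᵖ)
    (s : (pre h ((ofRes P).cyc (k + 1))).obj V') :
    (Φ h P (k + 1)).app V' s = 0 ↔
      ∃ t, ((SuppFam.sectSuppLC h).map (seq P k).g).hom.app V' t = s := by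
  refine Iff.trans (toExt_succ_eq_zero_iff (ofRes P) _ k (lcEquiv h _ V'.unop s)) ?_
  constructor
  · rintro ⟨i, hi⟩
    refine ⟨(lcEquiv h _ V'.unop).symm i, (lcEquiv h _ V'.unop).injective ?_⟩
    refine (lcEquiv_map h _ V'.unop (seq P k).g _).trans ?_
    rw [AddEquiv.apply_symm_apply]
    exact hi
  · rintro ⟨t, rfl⟩
    exact ⟨lcEquiv h _ V'.unop t, (lcEquiv_map h _ V'.unop (seq P k).g t).symm⟩

lemma map_g_Φ (k : ℕ) :
    (sheafToPresheaf (Opens.grothendieckTopology X) AddCommGrpCat.{u}).map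
      ((SuppFam.sectSuppLC h).map (seq P k).g) ≫ Φ h P (k + 1) = 0 := by
  ext V' s
  exact (Φ_succ_eq_zero_iff h P k V' _).2 ⟨s, rfl⟩

lemma isIso_desc (k : ℕ) : IsIso (cokernel.desc _ (Φ h P (k + 1)) (map_g_Φ h P k)) := by
  let φ := (sheafToPresheaf (Opens.grothendieckTopology X) AddCommGrpCat.{u}).map
    ((SuppFam.sectSuppLC h).map (seq P k).g)
  let ψ := cokernel.desc φ (Φ h P (k + 1)) (map_g_Φ h P k)
  haveI : ∀ U, IsIso (ψ.app U) := fun U => by
    have hπ : Function.Surjective ((cokernel.π φ).app U) :=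
      (AddCommGrpCat.epi_iff_surjective _).1 inferInstance
    have hc : ∀ s, ψ.app U ((cokernel.π φ).app U s) = (Φ h P (k + 1)).app U s := fun s => by
      rw [← ConcreteCategory.comp_apply, ← NatTrans.comp_app, cokernel.π_desc]
    refine (ConcreteCategory.isIso_iff_bijective _).2 ⟨?_, fun y => ?_⟩
    · refine (injective_iff_map_eq_zero (ψ.app U).hom).2 fun x hx => ?_
      obtain ⟨s, rfl⟩ := hπ x
      obtain ⟨t, ht⟩ := (Φ_succ_eq_zero_iff h P k U s).1 ((hc s).symm.trans hx)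
      rw [← ht]
      change ((φ ≫ cokernel.π φ).app U) t = 0
      rw [cokernel.condition]
      rfl
    · obtain ⟨x, rfl⟩ := toExt_surjective (ofRes P) _ (k + 1) y
      refine ⟨(cokernel.π φ).app U ((lcEquiv h _ U.unop).symm x), (hc _).trans ?_⟩
      rw [Φ_apply, AddEquiv.apply_symm_apply]
  exact NatIso.isIso_of_isIso_app ψ

theorem nonempty_iso (F : CohTop.Ab X) (q : ℕ) :
    Nonempty ((SuppFam.HZshLC h q).obj F ≅
      (presheafToSheaf (Opens.grothendieckTopology X) AddCommGrpCat.{u}).obj (SuppFam.HZpre F q h)) :=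
  let P := injectiveResolution F
  let L := presheafToSheaf (Opens.grothendieckTopology X) AddCommGrpCat.{u}
  match q with
  | 0 => ⟨(SuppFam.sectSuppLC h).rightDerivedZeroIsoSelf.app F ≪≫
      (SuppFam.sectSuppLC h).mapIso (isoCyc₀ P) ≪≫
      ((TopCoh.shIso (Y := X)).app _).symm ≪≫ L.mapIso (zeroIso h P)⟩
  | k + 1 => ⟨isoCokernel P (SuppFam.sectSuppLC h) k ≪≫
      cokernel.mapIso _ _ ((TopCoh.shIso (Y := X)).app _).symm ((TopCoh.shIso (Y := X)).app _).symm
        ((TopCoh.shIso (Y := X)).inv.naturality ((SuppFam.sectSuppLC h).map (seq P k).g)) ≪≫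
      (PreservesCokernel.iso L ((sheafToPresheaf _ _).map
        ((SuppFam.sectSuppLC h).map (seq P k).g))).symm ≪≫
      L.mapIso (@asIso _ _ _ _ _ (isIso_desc h P k))⟩

end Groth.Agent.H30.LocZ.SheafifyLC
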